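import Cfsg.Agent.Lib.SteinbergPolar.Sums

/-!
Central elements of a polar space setting fix the totally singular subspaces.
-/

set_option autoImplicit false
set_option linter.unusedSectionVars false

namespace CfsgLib.SteinbergPolar

namespace Setting

variable {F V G : Type*} [Field F] [AddCommGroup V] [Module F V] [Group G] (S : Setting F V G)

/-- A hyperbolic partner can be replaced by another one. -/
def Thick : Prop :=
  ∀ x o, S.sg x → S.sg o → S.f o x = 1 → ∃ o', S.sg o' ∧ S.f o' x = 1 ∧ o' ≠ o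

theorem central_mem_span (hthick : S.Thick) {z : G} (hz : ∀ g, g * z = z * g) {x : V}
    (hx : S.sg x) (hx0 : x ≠ 0) : S.ρ z x ∈ Submodule.span F {x} := by
  set w := S.ρ z x with hw
  have hwsg : S.sg w := S.sg_inv z x hx
  have hfix : ∀ o o' g, S.IsSpec x o o' g → S.ρ g w = w := fun o o' g hg => by
    rw [hw, ← LinearEquiv.mul_apply, ← map_mul, hz, map_mul, LinearEquiv.mul_apply,
      hg.2.2.2.2.2.1]
  by_contra hnot
  by_cases hwx : S.f w x = 0
  · -- two partners with different values on `w`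
    have hperp : x ∈ S.perp (Submodule.span F {x}) := fun v hv => by
      obtain ⟨c, rfl⟩ := Submodule.mem_span_singleton.1 hv
      exact S.f_symm0 _ _ (by rw [S.f_smul, S.sg_self x hx, mul_zero])
    obtain ⟨u, hux, huw⟩ : ∃ u, S.f u x = 0 ∧ S.f u w ≠ 0 := by
      by_contra hall
      push Not at hall
      exact hnot (S.double_perp _ _ fun u hu =>
        S.f_symm0 _ _ (hall u (hu x (Submodule.mem_span_singleton_self x))))
    obtain ⟨v₀, hv₀⟩ : ∃ v, S.f v x ≠ 0 := by
      by_contra hall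
      push Not at hall
      exact hx0 ((Submodule.mem_bot F).1 (S.double_perp ⊥ x fun u _ => S.f_symm0 _ _ (hall u)))
    obtain ⟨v, hvx⟩ : ∃ v, S.f v x = 1 :=
      ⟨(S.f v₀ x)⁻¹ • v₀, by rw [S.f_smul, inv_mul_cancel₀ hv₀]⟩
    have hxw : S.f x w = 0 := S.f_symm0 _ _ hwx
    have hxx : S.f x x = 0 := S.sg_self x hx
    obtain ⟨c, hc⟩ := S.adjust v x hx (by rw [hvx]; exact one_ne_zero)
    obtain ⟨d, hd⟩ := S.adjust (v + u) x hx (by rw [S.f_add, hvx, hux, add_zero]; exact one_ne_zero)
    obtain ⟨g, hg⟩ := S.exists_spec hx hc hd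
      (by rw [S.f_add, S.f_smul, hvx, hxx, mul_zero, add_zero])
      (by rw [S.f_add, S.f_smul, S.f_add, hvx, hux, hxx, mul_zero, add_zero, add_zero])
    have h := S.f_inv g (v + c • x) w
    rw [hg.2.2.2.2.2.2.1, hfix _ _ g hg] at h
    simp only [S.f_add, S.f_smul, hxw, mul_zero, add_zero] at h
    exact huw (add_eq_left.1 h)
  · obtain ⟨o, ho, hox, hos⟩ := S.exists_scaled hwsg hwx
    obtain ⟨o', ho', ho'x, hne⟩ := hthick x o hx ho hox
    obtain ⟨g, hg⟩ := S.exists_spec hx ho ho' hox ho'x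
    refine hne ?_
    obtain ⟨c, hc⟩ := Submodule.mem_span_singleton.1
      (hos ▸ Submodule.mem_span_singleton_self o : o ∈ Submodule.span F {w})
    rw [← hg.2.2.2.2.2.2.1, ← hc, map_smul, hfix _ _ g hg]

theorem central_fix [Finite V] (hthick : S.Thick) {z : G} (hz : ∀ g, g * z = z * g)
    {W : Submodule F V} (hW : S.TS W) : z ∈ S.stab W :=
  S.mem_stab_of_le fun v hv => by
    by_cases hv0 : v = 0
    · rw [hv0, map_zero]; exact W.zero_mem
    · exact (Submodule.span_singleton_le_iff_mem v W).2 hv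
        (S.central_mem_span hthick hz (hW.1 v hv) hv0)

end Setting

end CfsgLib.SteinbergPolar
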