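import Cfsg.Agent.Lib.SteinbergPolar.Sesq
import Cfsg.Agent.Lib.SteinbergPolar.Center
import Cfsg.Agent.Lib.Classical.OrthDickson
import Cfsg.Agent.Lib.Classical.OrthOmega

/-!
The polar space setting of an orthogonal group.
-/

set_option autoImplicit false
set_option linter.unusedSectionVars false

open Cfsg
open scoped Matrix

namespace CfsgLib.SteinbergPolar

open CfsgLib.Orth

variable {F : Type*} [Field F] [Finite F] {ι : Type} [Fintype ι] [DecidableEq ι]
variable {Q : QuadraticForm F (ι → F)}

local notation "B" => QuadraticMap.polar (DFunLike.coe Q)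

/-- In the small binary case there are no singular planes. -/
def SiegelCase (Q : QuadraticForm F (ι → F)) : Prop :=
  5 ≤ Module.finrank F (ι → F) ∨ 2 < Nat.card F ∨
    ∀ x v : ι → F, Q x = 0 → Q v = 0 → QuadraticMap.polar ⇑Q x v = 0 → x ≠ 0 →
      v ∈ Submodule.span F {x}

theorem siegel_mul_inv (hB : Nondeg Q) {u v w : ι → F} {g h : Grp Q} (hg : IsSiegel u v g)
    (hh : IsSiegel u w h) : IsSiegel u (v - w) (g * h⁻¹) := by
  obtain ⟨d, hd⟩ := exists_siegel hB hg.1 (v := -w) (by
    rw [← neg_one_smul F w, b_smul_right, hh.2.1, mul_zero])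
  have hinv : h⁻¹ = d := inv_eq_of_mul_eq_one_right <| by
    have := siegel_mul hh hd
    rw [add_neg_cancel] at this
    exact siegel_unique this (siegel_one hg.1)
  rw [sub_eq_add_neg, hinv]
  exact siegel_mul hg hd

theorem siegel_trivial {u : ι → F} {g : Grp Q} {c : F} (hg : IsSiegel u (c • u) g) : g = 1 := by
  have h := siegel_add_self hg (-c)
  rw [neg_smul, add_neg_cancel] at h
  exact siegel_unique h (siegel_one hg.1)

/-- Siegel transformations lie in `Ω`. -/
theorem siegel_mem_omega (hB : Nondeg Q) (hcase : SiegelCase Q) {u v : ι → F} {g : Grp Q}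
    (hg : IsSiegel u v g) : g ∈ Cfsg.Omega F ⇑Q := by
  rcases Nat.lt_or_ge (Module.finrank F (ι → F)) 5 with hn | hn
  swap
  · exact (omega_eq_El hB hn).symm ▸ siegel_mem_El hg
  by_cases hu0 : u = 0
  · subst hu0
    have : g = 1 := ext_ap fun x => by
      rw [hg.2.2, ap_one, b_zero_right, zero_smul, mul_zero, zero_smul, smul_zero, add_zero,
        sub_zero, sub_zero]
    rw [this]; exact one_mem _
  by_cases hvu : v ∈ Submodule.span F {u}
  · obtain ⟨c, rfl⟩ := Submodule.mem_span_singleton.1 hvu
    rw [siegel_trivial hg]; exact one_mem _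
  have hcomm : ∀ (h c : Grp Q) (w : ι → F), IsSiegel u w c → IsSiegel u (v + w) (h * c * h⁻¹) →
      g ∈ Cfsg.Omega F ⇑Q := fun h c w hc hconj => by
    have h2 := siegel_mul_inv hB hconj hc
    rw [add_sub_cancel_right] at h2
    rw [siegel_unique hg h2]
    exact commutatorElement_def h c ▸
      Subgroup.commutator_mem_commutator (Subgroup.mem_top h) (Subgroup.mem_top c)
  by_cases hQv : Q v = 0
  swap
  · -- a commutator with the reflection in `v`
    obtain ⟨w, hw, hvw⟩ : ∃ w ∈ orth Q (Submodule.span F {u}), B v w = 1 := exists_orth_one hB hvu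
    have huw : B u w = 0 := mem_orth.1 hw u (Submodule.mem_span_singleton_self u)
    obtain ⟨r, hr⟩ := exists_refl hB hQv
    obtain ⟨c, hc⟩ := exists_siegel hB hg.1 (v := (-Q v) • w) (by rw [b_smul_right, huw, mul_zero])
    refine hcomm r c _ hc ?_
    have hconj := siegel_conj hc r
    rw [refl_fix hr (by rw [b_comm]; exact hg.2.1)] at hconj
    convert hconj using 1
    rw [hr.2, b_smul_right, hvw, mul_one]
    rw [show (Q v)⁻¹ * -Q v = -1 by field_simp]
    simp [add_comm]
  · rcases hcase with h | h | h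
    · omega
    · -- a commutator with a torus element
      obtain ⟨c, hc0, hc1⟩ : ∃ c : F, c ≠ 0 ∧ c ≠ 1 := by
        by_contra hall
        push Not at hall
        have h2 : Nat.card F ≤ Nat.card (Fin 2) := by
          refine Nat.card_le_card_of_surjective (fun i : Fin 2 => if i = 0 then (0 : F) else 1) ?_
          intro c
          by_cases hc : c = 0
          · exact ⟨0, by simp [hc]⟩
          · exact ⟨1, by simp [hall c hc]⟩
        simp at h2
        omega
      obtain ⟨w, hw, huw⟩ : ∃ w ∈ orth Q (Submodule.span F {v}), B u w = 1 := by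
        refine exists_orth_one hB fun hm => ?_
        obtain ⟨d, hd⟩ := Submodule.mem_span_singleton.1 hm
        refine hvu (Submodule.mem_span_singleton.2 ⟨d⁻¹, ?_⟩)
        have hd0 : d ≠ 0 := fun e => hu0 (by rw [← hd, e, zero_smul])
        rw [← hd, smul_smul, inv_mul_cancel₀ hd0, one_smul]
      have hvw : B v w = 0 := mem_orth.1 hw v (Submodule.mem_span_singleton_self v)
      obtain ⟨o, ho⟩ : ∃ o, o = w - Q w • u := ⟨_, rfl⟩
      have hoQ : Q o = 0 := by
        rw [ho, q_sub, q_smul, hg.1, mul_zero, add_zero, b_smul_right, b_comm w u, huw, mul_one,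
          sub_self]
      have huo : B u o = 1 := by
        rw [ho, b_sub_right, b_smul_right, huw, b_self_zero hg.1, mul_zero, sub_zero]
      have hvo : B v o = 0 := by
        rw [ho, b_sub_right, b_smul_right, hvw, b_comm v u, hg.2.1, mul_zero, sub_zero]
      let T : (ι → F) →ₗ[F] (ι → F) := LinearMap.id
        + ((c - 1) • QuadraticMap.polarBilin Q o).smulRight u
        + ((c⁻¹ - 1) • QuadraticMap.polarBilin Q u).smulRight o
      have hT : ∀ y, T y = y + ((c - 1) * B o y) • u + ((c⁻¹ - 1) * B u y) • o := fun y => by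
        simp [T]
      obtain ⟨h', hh'⟩ := exists_iso hB T fun y => by
        simp only [hT, q_add, q_smul, hg.1, hoQ, b_add_left, b_smul_left, b_smul_right, huo]
        rw [b_comm y o, b_comm y u]
        field_simp
        ring
      have hu' : ap h' u = c • u := by
        rw [hh', hT, b_comm o u, huo, b_self_zero hg.1, mul_zero, zero_smul, add_zero, mul_one,
          sub_smul, one_smul, add_sub_cancel]
      have hv' : ap h' v = v := by
        rw [hh', hT, b_comm o v, hvo, hg.2.1, mul_zero, mul_zero, zero_smul, zero_smul, add_zero,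
          add_zero]
      have hc1' : c - 1 ≠ 0 := sub_ne_zero.2 hc1
      obtain ⟨d, hd⟩ := exists_siegel hB hg.1 (v := (c - 1)⁻¹ • v)
        (by rw [b_smul_right, hg.2.1, mul_zero])
      refine hcomm h' d _ hd ?_
      have hconj := siegel_conj hd h'
      rw [ap_smul, hu', hv'] at hconj
      obtain ⟨e, he⟩ := exists_siegel hB hg.1 (v := (c - 1)⁻¹ • v)
        (by rw [b_smul_right, hg.2.1, mul_zero])
      have h3 := siegel_smul he c hconj
      convert h3 using 1
      rw [smul_smul]
      nth_rewrite 1 [← one_smul F v]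
      rw [← add_smul]
      congr 1
      field_simp
      ring
    · exact absurd (h u v hg.1 hQv hg.2.1 hu0) hvu

/-- The matrices of `Ω`. -/
abbrev omegaMat (Q : QuadraticForm F (ι → F)) : Cfsg.Omega F ⇑Q →* Matrix ι ι F :=
  (Units.coeHom (Matrix ι ι F)).comp
    ((Cfsg.isometryGroup F ⇑Q).subtype.comp (Cfsg.Omega F ⇑Q).subtype)

theorem omega_act_apply (g : Cfsg.Omega F ⇑Q) (v : ι → F) :
    ofMatrix (omegaMat Q) g v = ap (g : Grp Q) v := rfl

theorem omega_act_injective : Function.Injective (ofMatrix (omegaMat Q)) :=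
  ofMatrix_injective fun _ _ e => Subtype.ext (Subtype.ext (Units.ext e))

/-- The setting of an orthogonal group. -/
noncomputable def orthSetting (hB : Nondeg Q) (hcase : SiegelCase Q) :
    Setting F (ι → F) (Cfsg.Omega F ⇑Q) where
  ρ := ofMatrix (omegaMat Q)
  ρ_inj := omega_act_injective
  f := fun a b => QuadraticMap.polar (⇑Q) a b
  f_add := b_add_left
  f_smul := b_smul_left
  f_symm0 a b h := by rw [b_comm]; exact h
  f_inv g a b := ap_b (g : Grp Q) a b
  sg v := Q v = 0
  sg_zero := QuadraticMap.map_zero Q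
  sg_self a h := b_self_zero h
  sg_smul c a h := by rw [q_smul, h, mul_zero]
  sg_add a b ha hb h := by rw [q_add, ha, hb, h]; simp
  sg_inv g a h := by rw [omega_act_apply, ap_q]; exact h
  double_perp W v h := by
    rw [← orth_orth hB W]
    refine mem_orth.2 fun u hu => ?_
    rw [b_comm]
    exact h u fun w hw => by rw [b_comm]; exact mem_orth.1 hu w hw
  adjust v x hx hvx := ⟨-(Q v) * (B v x)⁻¹, by
    rw [q_add, q_smul, hx, mul_zero, add_zero, b_smul_right, mul_assoc, inv_mul_cancel₀ hvx,
      mul_one, add_neg_cancel]⟩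
  spec x o o' hx ho ho' h h' := by
    have hxv : B x (o' - o) = 0 := by rw [b_sub_right, b_comm x o', b_comm x o, h, h', sub_self]
    obtain ⟨g, hg⟩ := exists_siegel hB hx hxv
    refine ⟨⟨g, siegel_mem_omega hB hcase hg⟩, ?_, ?_, fun v hv => ⟨-B v (o' - o), ?_⟩,
      fun v hv hvo hvo' => ?_⟩
    · rw [omega_act_apply]
      exact siegel_fix hg (b_self_zero hx) hxv
    · rw [omega_act_apply, hg.2.2, h, mul_one, b_sub_right, b_self_zero ho, q_sub, ho, ho',
        b_comm o' o]
      module
    · rw [omega_act_apply, hg.2.2, hv]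
      module
    · rw [omega_act_apply]
      exact siegel_fix hg hv (by rw [b_sub_right, hvo, hvo', sub_self])

/-- Unipotent elements of `Ω` have a fixed singular vector orthogonal to their fixed space. -/
theorem orth_good (p : ℕ) [Fact p.Prime] [CharP F p] (hB : Nondeg Q) {u : Cfsg.Omega F ⇑Q}
    (hu : u ≠ 1) (k : ℕ) (hk : u ^ p ^ k = 1) :
    ∃ r, r ≠ 0 ∧ Q r = 0 ∧ ofMatrix (omegaMat Q) u r = r ∧
      ∀ v, ofMatrix (omegaMat Q) u v = v → B v r = 0 := by
  classical
  set ρ := ofMatrix (omegaMat Q) with hρ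
  set N : Module.End F (ι → F) := (ρ u).toLinearMap - 1 with hN
  have hNv : ∀ v, N v = ρ u v - v := fun _ => rfl
  have hinv : ∀ a b, B (ρ u a) (ρ u b) = B a b := fun a b => ap_b (u : Grp Q) a b
  have hQinv : ∀ a, Q (ρ u a) = Q a := fun a => ap_q (u : Grp Q) a
  have hperp : ∀ w, ρ u w = w → ∀ y, B w (N y) = 0 := fun w hw y => by
    rw [hNv, b_sub_right]
    nth_rewrite 1 [← hw]
    rw [hinv, sub_self]
  have hQN : ∀ y, Q (N y) + B y (N y) = 0 := fun y => by
    have h := hQinv y
    rw [show ρ u y = y + N y by rw [hNv]; abel, q_add] at h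
    linear_combination h
  have hcast : ((p : ℕ) : Module.End F (ι → F)) = 0 := by
    rw [← map_natCast (algebraMap F (Module.End F (ι → F))) p, CharP.cast_eq_zero, map_zero]
  have hnil : N ^ p ^ k = 0 := by
    have hT : (ρ u).toLinearMap ^ p ^ k = 1 := by
      have := map_pow (LinearEquiv.automorphismGroup.toLinearMapMonoidHom (R := F) (M := ι → F))
        (ρ u) (p ^ k)
      rw [← map_pow ρ, hk, map_one, map_one] at this
      exact this.symm
    have h := (Commute.one_right N).add_pow_prime_pow_eq (Fact.out : p.Prime) k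
    simp only [hN, sub_add_cancel, one_pow, hcast, zero_mul, add_zero, hT] at h
    exact add_eq_right.1 h.symm
  have hex : ∃ j : ℕ, N ^ j = 0 := ⟨_, hnil⟩
  have hfix : ∀ {y}, N y = 0 → ρ u y = y := fun {y} h => sub_eq_zero.1 h
  have hN0 : N ≠ 0 := fun h0 => hu (omega_act_injective (LinearEquiv.ext fun v => by
    rw [map_one]
    exact sub_eq_zero.1 ((hNv v).symm.trans (by rw [h0]; rfl))))
  by_cases h2 : N * N = 0
  · have hfixr : ∀ r ∈ LinearMap.range N, ρ u r = r := by
      rintro r ⟨y, rfl⟩
      exact hfix (by rw [← Module.End.mul_apply, h2]; rfl)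
    have hperpr : ∀ r ∈ LinearMap.range N, ∀ w, ρ u w = w → B w r = 0 := by
      rintro r ⟨y, rfl⟩ w hw
      exact hperp w hw y
    suffices ∃ r ∈ LinearMap.range N, r ≠ 0 ∧ Q r = 0 by
      obtain ⟨r, hr, hr0, hQr⟩ := this
      exact ⟨r, hr0, hQr, hfixr r hr, hperpr r hr⟩
    -- the range of `N` is at least two-dimensional
    have hrank : 2 ≤ Module.finrank F (LinearMap.range N) := by
      rcases Nat.lt_or_ge (Module.finrank F (LinearMap.range N)) 2 with hlt | hge
      swap
      · exact hge
      exfalso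
      have hne : LinearMap.range N ≠ ⊥ := fun h => hN0 (LinearMap.range_eq_bot.1 h)
      have hpos : Module.finrank F (LinearMap.range N) ≠ 0 := fun h =>
        hne (Submodule.finrank_eq_zero.1 h)
      have hsum := LinearMap.finrank_range_add_finrank_ker N
      have hker : fixSpace (u : Grp Q) = LinearMap.ker N := by
        ext v
        rw [mem_fixSpace, LinearMap.mem_ker, hNv, sub_eq_zero]
        rfl
      have hd : dickson hB (u : Grp Q) = 1 :=
        MonoidHom.mem_ker.1 (Abelianization.commutator_subset_ker (dickson hB) u.2)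
      change (-1 : ℤˣ) ^ (_ + _) = 1 at hd
      rw [hker, Odd.neg_one_pow ⟨Module.finrank F (LinearMap.ker N), by omega⟩] at hd
      exact absurd hd (by decide)
    obtain ⟨r₁, hr₁, hr₁0⟩ := Submodule.exists_mem_ne_zero_of_ne_bot
      (p := LinearMap.range N) (fun h => by rw [h, finrank_bot] at hrank; omega)
    obtain ⟨r₂, hr₂, hr₂s⟩ : ∃ r ∈ LinearMap.range N, r ∉ Submodule.span F {r₁} := by
      by_contra hall
      push Not at hall
      have := Submodule.finrank_mono (show LinearMap.range N ≤ Submodule.span F {r₁} from hall)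
      rw [finrank_span_singleton hr₁0] at this
      omega
    by_cases hQ1 : Q r₁ = 0
    · exact ⟨r₁, hr₁, hr₁0, hQ1⟩
    have h20 : (2 : F) = 0 := by
      have h := hperpr r₁ hr₁ r₁ (hfixr r₁ hr₁)
      rw [b_self] at h
      exact (mul_eq_zero.1 h).resolve_right hQ1
    have : CharP F 2 := CharTwo.of_one_ne_zero_of_two_eq_zero one_ne_zero h20
    obtain ⟨c, hc⟩ := FiniteField.isSquare_of_char_two (ringChar.eq F 2) (Q r₂ / Q r₁)
    refine ⟨r₂ + c • r₁, add_mem hr₂ (Submodule.smul_mem _ _ hr₁), fun h => hr₂s ?_, ?_⟩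
    · rw [eq_neg_of_add_eq_zero_left h]
      exact neg_mem (Submodule.smul_mem _ _ (Submodule.mem_span_singleton_self r₁))
    · rw [q_add, q_smul, b_smul_right, hperpr r₁ hr₁ r₂ (hfixr r₂ hr₂), ← hc,
        div_mul_cancel₀ _ hQ1, mul_zero, add_zero]
      linear_combination Q r₂ * h20
  · have h3 : 3 ≤ Nat.find hex := by
      by_contra hlt
      refine h2 ?_
      have h := Nat.find_spec hex
      have h' : N ^ 2 = 0 := pow_eq_zero_of_le (by omega) h
      rwa [pow_two] at h'
    obtain ⟨j, hj⟩ : ∃ j, Nat.find hex = j + 3 := ⟨Nat.find hex - 3, by omega⟩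
    obtain ⟨v, hv⟩ : ∃ v, (N ^ (j + 2)) v ≠ 0 := by
      by_contra hall
      push Not at hall
      exact Nat.find_min hex (show j + 2 < Nat.find hex by omega) (LinearMap.ext hall)
    have hr : (N ^ (j + 2)) v = N (N ((N ^ j) v)) := by
      rw [pow_succ', pow_succ', Module.End.mul_apply, Module.End.mul_apply]
    have hfixed : ρ u ((N ^ (j + 2)) v) = (N ^ (j + 2)) v := hfix (by
      have := Nat.find_spec hex
      rw [hj, pow_succ'] at this
      rw [← Module.End.mul_apply, this]; rfl)
    rw [hr] at hv hfixed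
    refine ⟨N (N ((N ^ j) v)), hv, ?_, hfixed, fun w hw => hperp w hw _⟩
    have h := hQN (N ((N ^ j) v))
    rwa [b_comm (N ((N ^ j) v)), hperp _ hfixed, add_zero] at h

/-- In dimension two `Ω` fixes the singular lines. -/
theorem fix_lines_two (hB : Nondeg Q) (h2 : Module.finrank F (ι → F) = 2) {x : ι → F}
    (hx : Q x = 0) (hx0 : x ≠ 0) {g : Grp Q} (hg : g ∈ Cfsg.Omega F ⇑Q) :
    ap g x ∈ Submodule.span F {x} := by
  obtain ⟨o, ho, hxo⟩ := exists_partner hB hx hx0
  have hli : LinearIndependent F ![x, o] := LinearIndependent.pair_iff.2 fun s t hst => by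
    have h1 := congrArg (fun y => B x y) hst
    have h2 := congrArg (fun y => B o y) hst
    simp only [b_add_right, b_smul_right, b_zero_right, hxo, b_self_zero hx, mul_zero, zero_add,
      mul_one] at h1
    simp only [b_add_right, b_smul_right, b_zero_right, b_comm o x, hxo, b_self_zero ho, mul_zero,
      add_zero, mul_one] at h2
    exact ⟨h2, h1⟩
  have hspan : ∀ y, y = B o y • x + B x y • o := fun y => by
    have htop := hli.span_eq_top_of_card_eq_finrank' (by simp [h2])
    have hy : y ∈ Submodule.span F (Set.range ![x, o]) := by rw [htop]; trivial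
    rw [Matrix.range_cons, Matrix.range_cons, Matrix.range_empty, Set.union_empty,
      Set.singleton_union, Submodule.mem_span_pair] at hy
    obtain ⟨s, t, rfl⟩ := hy
    simp [b_add_right, b_smul_right, b_comm o x, hxo, b_self_zero hx, b_self_zero ho]
  have hab : B o (ap g x) * B x (ap g x) = 0 := by
    have h := ap_q g x
    rw [hspan (ap g x), q_add, q_smul, q_smul, b_smul_left, b_smul_right, hx, ho, hxo] at h
    simpa using h
  rcases mul_eq_zero.1 hab with ha | hb
  swap
  · rw [hspan (ap g x), hb, zero_smul, add_zero]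
    exact Submodule.smul_mem _ _ (Submodule.mem_span_singleton_self x)
  exfalso
  set c := B x (ap g x) with hc
  have hgx : ap g x = c • o := by
    conv_lhs => rw [hspan (ap g x), ha, zero_smul, zero_add, ← hc]
  have hc0 : c ≠ 0 := fun e => hx0 (ap_inj g (by rw [hgx, e, zero_smul, ap_zero]))
  -- `g` exchanges the lines
  have hpo := ap_b g x o
  rw [hxo, hgx, b_smul_left] at hpo
  have hx' : B o (ap g o) = c⁻¹ := by
    field_simp
    linear_combination hpo
  have hqo := ap_q g o
  rw [ho, hspan (ap g o), q_add, q_smul, q_smul, b_smul_left, b_smul_right, hx, ho, hxo,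
    hx'] at hqo
  have hgo : ap g o = c⁻¹ • x := by
    have hzero : B x (ap g o) = 0 := by simpa [hc0] using hqo
    conv_lhs => rw [hspan (ap g o), hx', hzero, zero_smul, add_zero]
  have hfix : x + c • o ∈ fixSpace g := by
    rw [mem_fixSpace, ap_add, ap_smul, hgo, hgx, smul_smul, mul_inv_cancel₀ hc0, one_smul,
      add_comm]
  have hd : dickson hB g = 1 := MonoidHom.mem_ker.1 (Abelianization.commutator_subset_ker (dickson hB) hg)
  change (-1 : ℤˣ) ^ (_ + _) = 1 at hd
  have hle := Submodule.finrank_le (fixSpace g)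
  have hne : Module.finrank F (fixSpace g) ≠ 0 := fun e => by
    rw [Submodule.finrank_eq_zero.1 e, Submodule.mem_bot] at hfix
    have := congrArg (fun y => B o y) hfix
    simp [b_add_right, b_smul_right, b_comm o x, hxo, b_self_zero ho, b_zero_right] at this
  have hne1 : Module.finrank F (fixSpace g) ≠ 1 := fun e => by
    rw [e, h2] at hd
    exact absurd hd (by decide)
  have htop : fixSpace g = ⊤ := Submodule.eq_top_of_finrank_eq (by omega)
  have hxfix : ap g x = x := mem_fixSpace.1 (htop ▸ Submodule.mem_top)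
  rw [hgx] at hxfix
  have := congrArg (fun y => B o y) hxfix
  simp [b_smul_right, b_comm o x, hxo, b_self_zero ho] at this

/-- The Steinberg character of an orthogonal group. -/
theorem orth_steinberg (p : ℕ) [Fact p.Prime] [CharP F p] (hB : Nondeg Q) (hcase : SiegelCase Q)
    (hn : 2 ≤ Module.finrank F (ι → F)) :
    ∃ χ : Cfsg.POmega F ⇑Q → ℂ, Cfsg.IsIrrCharacter (Cfsg.POmega F ⇑Q) χ ∧
      ∀ P : Sylow p (Cfsg.POmega F ⇑Q), χ 1 = Nat.card P ∧
        ∀ x : Cfsg.POmega F ⇑Q, x ∈ P → x ≠ 1 → χ x = 0 := by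
  classical
  let S := orthSetting hB hcase
  refine S.exists_steinberg p (QuotientGroup.mk' _) (QuotientGroup.mk'_surjective _)
    (fun z hz W hW => ?_) (fun u hu k hk => orth_good p hB hu k hk)
  have hcen : ∀ g, g * z = z * g :=
    fun g => Subgroup.mem_center_iff.1 ((QuotientGroup.eq_one_iff z).1 hz) g
  rcases Nat.lt_or_ge (Module.finrank F (ι → F)) 3 with h3 | h3
  · refine S.mem_stab_of_le fun v hv => ?_
    by_cases hv0 : v = 0
    · rw [hv0, map_zero]; exact W.zero_mem
    · exact (Submodule.span_singleton_le_iff_mem v W).2 hv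
        (fix_lines_two hB (by omega) (hW.1 v hv) hv0 z.2)
  refine S.central_fix (fun x o hx ho hox => ?_) hcen hW
  change Q x = 0 at hx
  change Q o = 0 at ho
  change B o x = 1 at hox
  have h := finrank_orth_span hB ({x, o} : Finset (ι → F))
  have hc : ({x, o} : Finset (ι → F)).card ≤ 2 := Finset.card_le_two
  obtain ⟨v, hv, hv0⟩ := Submodule.exists_mem_ne_zero_of_ne_bot
    (p := orth Q (Submodule.span F (({x, o} : Finset (ι → F)) : Set (ι → F))))
    (fun e => by rw [e, finrank_bot] at h; omega)
  have hxv : B x v = 0 := mem_orth.1 hv x (Submodule.subset_span (by simp))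
  have hov : B o v = 0 := mem_orth.1 hv o (Submodule.subset_span (by simp))
  refine ⟨o + (v - Q v • x), ?_, ?_, fun e => ?_⟩
  · show Q _ = 0
    rw [q_add, q_sub, q_smul, hx, ho, b_sub_right, b_smul_right, b_smul_right, b_comm v x, hxv,
      hov, hox]
    ring
  · show B (o + (v - Q v • x)) x = 1
    rw [b_add_left, b_sub_left, b_smul_left, b_comm v x, hxv, b_self_zero hx, hox]
    ring
  · rw [add_eq_left, sub_eq_zero] at e
    have hQv : Q v = 0 := by
      have := congrArg (fun y => B o y) e
      simpa [b_smul_right, hov, hox] using this.symm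
    rw [hQv, zero_smul] at e
    exact hv0 e

end CfsgLib.SteinbergPolar
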