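import Cfsg.Agent.Lib.SteinbergPolar.Basic

/-!
Sums of the alternating chain count over stabilizers: averaging over transitive actions, and the
action of the transvection-like elements of a polar space on its totally singular subspaces.
-/

set_option autoImplicit false
set_option linter.unusedSectionVars false

namespace CfsgLib.SteinbergPolar

variable {F V G : Type*} [Field F] [AddCommGroup V] [Module F V] [Group G]

namespace Setting

variable (S : Setting F V G)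

/-- The property of the elements provided by `Setting.spec`. -/
def IsSpec (x o o' : V) (g : G) : Prop :=
  S.sg x ∧ S.sg o ∧ S.sg o' ∧ S.f o x = 1 ∧ S.f o' x = 1 ∧ S.ρ g x = x ∧ S.ρ g o = o' ∧
    (∀ v, S.f v x = 0 → ∃ c : F, S.ρ g v = v + c • x) ∧
    ∀ v, S.f v x = 0 → S.f v o = 0 → S.f v o' = 0 → S.ρ g v = v

/-- Scaling a vector pairing non-trivially with `x`. -/
theorem exists_scaled {o x : V} (ho : S.sg o) (h : S.f o x ≠ 0) :
    ∃ o₁, S.sg o₁ ∧ S.f o₁ x = 1 ∧ Submodule.span F {o₁} = Submodule.span F {o} := by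
  refine ⟨(S.f o x)⁻¹ • o, S.sg_smul _ _ ho, by rw [S.f_smul, inv_mul_cancel₀ h], ?_⟩
  exact Submodule.span_singleton_smul_eq (IsUnit.mk0 _ (inv_ne_zero h)) o

theorem exists_spec {x o o' : V} (hx : S.sg x) (ho : S.sg o) (ho' : S.sg o')
    (h : S.f o x = 1) (h' : S.f o' x = 1) : ∃ g, S.IsSpec x o o' g := by
  obtain ⟨g, h1, h2, h3, h4⟩ := S.spec x o o' hx ho ho' h h'
  exact ⟨g, hx, ho, ho', h, h', h1, h2, h3, h4⟩

variable [Finite V]

theorem IsSpec.fix_of_perp {x o o' : V} {g : G} (h : S.IsSpec x o o' g) {A : Submodule F V}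
    (hx : x ∈ S.perp A) (ho : o ∈ S.perp A) (ho' : o' ∈ S.perp A) : g ∈ S.stab A :=
  S.mem_stab_of_le fun v hv => by
    rw [h.2.2.2.2.2.2.2.2 v (S.f_symm0 _ _ (hx v hv)) (S.f_symm0 _ _ (ho v hv))
      (S.f_symm0 _ _ (ho' v hv))]
    exact hv

theorem IsSpec.fix_of_mem {x o o' : V} {g : G} (h : S.IsSpec x o o' g) {Z : Submodule F V}
    (hZ : S.TS Z) (hx : x ∈ Z) : g ∈ S.stab Z :=
  S.mem_stab_of_le fun v hv => by
    obtain ⟨c, hc⟩ := h.2.2.2.2.2.2.2.1 v (hZ.2 hv x hx)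
    rw [hc]
    exact add_mem hv (Submodule.smul_mem _ c hx)

theorem IsSpec.fix_pair {x o o' : V} {g : G} (h : S.IsSpec x o o' g) {Y : Submodule F V}
    (hY : S.TS Y) (ho : o ∈ Y) (ho' : o' ∈ Y) : g ∈ S.stab Y :=
  S.mem_stab_of_le fun v hv => by
    have h1 : S.f (v - S.f v x • o) x = 0 := by rw [S.f_sub, S.f_smul, h.2.2.2.1, mul_one, sub_self]
    have hm : v - S.f v x • o ∈ Y := sub_mem hv (Submodule.smul_mem _ _ ho)
    have h2 := h.2.2.2.2.2.2.2.2 _ h1 (hY.2 hm o ho) (hY.2 hm o' ho')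
    rw [map_sub, map_smul, h.2.2.2.2.2.2.1, sub_eq_iff_eq_add] at h2
    rw [h2]
    exact add_mem hm (Submodule.smul_mem _ _ ho')

theorem IsSpec.act_sup_span {x o o' : V} {g : G} (h : S.IsSpec x o o' g) {A : Submodule F V}
    (hA : g ∈ S.stab A) :
    S.act g (A ⊔ Submodule.span F {o}) = A ⊔ Submodule.span F {o'} := by
  rw [S.act_sup, hA]
  congr 1
  rw [act, Submodule.map_span, Set.image_singleton]
  show Submodule.span F {S.ρ g o} = _
  rw [h.2.2.2.2.2.2.1]

theorem exists_pair_vec {T : Submodule F V} {o o' : V} (h1 : ∃ w ∈ T, S.f w o ≠ 0)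
    (h2 : ∃ w ∈ T, S.f w o' ≠ 0) : ∃ w ∈ T, S.f w o ≠ 0 ∧ S.f w o' ≠ 0 := by
  obtain ⟨a, ha, hao⟩ := h1
  obtain ⟨b, hb, hbo⟩ := h2
  by_cases hao' : S.f a o' = 0
  · by_cases hbo' : S.f b o = 0
    · exact ⟨a + b, add_mem ha hb, by rw [S.f_add, hbo', add_zero]; exact hao,
        by rw [S.f_add, hao', zero_add]; exact hbo⟩
    · exact ⟨b, hb, hbo', hbo⟩
  · exact ⟨a, ha, hao, hao'⟩

theorem Cover.act {B W : Submodule F V} (h : Cover B W) (g : G) : Cover (S.act g B) (S.act g W) := by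
  obtain ⟨x, hx, hxB, e⟩ := h
  refine ⟨S.ρ g x, S.mem_act.2 ⟨x, hx, rfl⟩, fun hm => ?_, ?_⟩
  · obtain ⟨b, hb, e'⟩ := S.mem_act.1 hm
    exact hxB ((S.ρ g).injective e' ▸ hb)
  · rw [e, S.act_sup]
    congr 1
    rw [Setting.act, Submodule.map_span, Set.image_singleton]
    rfl

/-- Opposite of a cover is a cover. -/
theorem cover_of_opp {B W Y : Submodule F V} (hW : Cover B W) (hY : S.TS Y) (hBY : B < Y)
    (h : Y ⊓ S.perp W = B) : Cover B Y := by
  obtain ⟨x, hx, hxB, rfl⟩ := hW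
  have hperp : ∀ v ∈ Y, S.f v x = 0 → v ∈ B := fun v hv h0 => by
    rw [← h]
    exact ⟨hv, S.perp_mono_span (S.perp_anti hBY.le (hY.2 hv)) h0⟩
  refine Cover.of_forall hBY fun Z hBZ hZY => le_antisymm hZY fun v hv => ?_
  obtain ⟨z, hz, hzB⟩ := SetLike.exists_of_lt hBZ
  have hzx : S.f z x ≠ 0 := fun h0 => hzB (hperp z (hZY hz) h0)
  have := hperp (v - (S.f v x * (S.f z x)⁻¹) • z) (sub_mem hv (Submodule.smul_mem _ _ (hZY hz)))
    (by rw [S.f_sub, S.f_smul, mul_assoc, inv_mul_cancel₀ hzx, mul_one, sub_self])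
  simpa using add_mem (hBZ.le this) (Submodule.smul_mem _ (S.f v x * (S.f z x)⁻¹) hz)

theorem opp_symm {B W Y : Submodule F V} (hW : Cover B W) (hWT : S.TS W) (hY : S.TS Y) (hBY : B < Y)
    (h : Y ⊓ S.perp W = B) : W ⊓ S.perp Y = B := by
  refine le_antisymm (fun w hw => ?_) (le_inf hW.lt.le
    (hBY.le.trans hY.2))
  by_contra hwB
  have e := hW.eq_sup hw.1 hwB
  obtain ⟨y, hy, hyB⟩ := SetLike.exists_of_lt hBY
  refine hyB ?_
  rw [← h]
  refine ⟨hy, ?_⟩
  rw [e]
  exact S.perp_mono_span (S.perp_anti hBY.le (hY.2 hy)) (S.f_symm0 _ _ (hw.2 y hy))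

/-- Passing to the residue of `Y` and back. -/
theorem recover {B W Y Z : Submodule F V} (hZ : S.TS Z) (hBW : B ≤ W) (hBY : B ≤ Y) (hWZ : W ≤ Z)
    (h : Y ⊓ S.perp W = B) : ((Z ⊓ S.perp Y ⊔ Y) ⊓ S.perp W) ⊔ W = Z := by
  have h1 : Z ⊓ S.perp Y ≤ S.perp W := inf_le_left.trans (hZ.2.trans (S.perp_anti hWZ))
  have h2 : S.perp Y ⊔ W = S.perp B := by rw [← h, S.perp_inf, S.perp_perp]
  rw [sup_inf_assoc_of_le Y h1, h, sup_assoc, sup_eq_right.2 hBW, inf_sup_assoc_of_le _ hWZ, h2,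
    inf_eq_left.2 (hZ.2.trans (S.perp_anti (hBW.trans hWZ)))]

theorem TS_pull {Y Z : Submodule F V} (hY : S.TS Y) (hZ : S.TS Z) :
    S.TS (Z ⊓ S.perp Y ⊔ Y) :=
  (hZ.mono S inf_le_left).sup S hY inf_le_right

/-- The elements fixing everything totally singular above `W`. -/
def fixAbove (W : Submodule F V) : Subgroup G where
  carrier := {g | ∀ Z, S.TS Z → W ≤ Z → g ∈ S.stab Z}
  one_mem' := fun _ _ _ => one_mem _
  mul_mem' := fun ha hb Z h1 h2 => mul_mem (ha Z h1 h2) (hb Z h1 h2)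
  inv_mem' := fun ha Z h1 h2 => inv_mem (ha Z h1 h2)

theorem mem_fixAbove {W : Submodule F V} {g : G} :
    g ∈ S.fixAbove W ↔ ∀ Z, S.TS Z → W ≤ Z → g ∈ S.stab Z := Iff.rfl

theorem fixAbove_pull {B W Y : Submodule F V} {n : G} (hY : S.TS Y) (hBW : B ≤ W) (hBY : B ≤ Y)
    (h : Y ⊓ S.perp W = B) (hnW : n ∈ S.stab W)
    (hn : n ∈ S.fixAbove (W ⊓ S.perp Y ⊔ Y)) : n ∈ S.fixAbove W := fun Z hZ hWZ => by
  rw [← S.recover hZ hBW hBY hWZ h]
  exact S.stab_sup (S.stab_inf (hn _ (S.TS_pull hY hZ) (sup_le_sup_right (inf_le_inf_right _ hWZ) _))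
    (S.stab_perp hnW)) hnW

noncomputable local instance : Fintype (Submodule F V) := Fintype.ofFinite _

theorem chi_congr {W : Submodule F V} {g h : G}
    (e : ∀ Z, S.Above W Z → (g ∈ S.stab Z ↔ h ∈ S.stab Z)) : S.chi W g = S.chi W h := by
  refine Finset.sum_congr ?_ fun _ _ => rfl
  ext c
  simp only [S.mem_fchains]
  exact and_congr_right fun hc => forall_congr' fun Z => imp_congr_right fun hZ => e Z (hc.1 Z hZ)

theorem chi_mul_right {W : Submodule F V} {g n : G} (hn : n ∈ S.fixAbove W) :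
    S.chi W (g * n) = S.chi W g :=
  S.chi_congr fun Z hZ => Subgroup.mul_mem_cancel_right _ (hn Z hZ.1 hZ.2.le)

open Classical in
theorem chi_conj (n g : G) (Y : Submodule F V) :
    S.chi (S.act n Y) (n * g * n⁻¹) = S.chi Y g := by
  have habove : ∀ {Y Z : Submodule F V} (n : G), S.Above Y Z → S.Above (S.act n Y) (S.act n Z) :=
    fun n h => ⟨h.1.act S n, lt_of_le_of_ne (S.act_mono n h.2.le)
      fun e => h.2.ne (S.act_injective n e)⟩
  have hstab : ∀ (n g : G) (Z : Submodule F V), g ∈ S.stab Z →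
      n * g * n⁻¹ ∈ S.stab (S.act n Z) := fun n g Z h => by
    rw [S.mem_stab, S.act_mul, S.act_inv_act, S.act_mul, h]
  have hmem : ∀ (n g : G) (Y : Submodule F V) c, c ∈ S.fchains Y g →
      c.image (S.act n) ∈ S.fchains (S.act n Y) (n * g * n⁻¹) := fun n g Y c hc => by
    simp only [S.mem_fchains, Finset.forall_mem_image] at hc ⊢
    exact ⟨⟨fun Z hZ => habove n (hc.1.1 Z hZ), fun A hA Z hZ => (hc.1.2 A hA Z hZ).imp
      (S.act_mono n) (S.act_mono n)⟩, fun Z hZ => hstab n g Z (hc.2 Z hZ)⟩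
  refine (Finset.sum_bij' (fun c _ => c.image (S.act n)) (fun c _ => c.image (S.act n⁻¹))
    (fun c hc => hmem n g Y c hc) (fun c hc => ?_) (fun c _ => ?_) (fun c _ => ?_) (fun c _ => ?_)).symm
  · have := hmem n⁻¹ (n * g * n⁻¹) (S.act n Y) c hc
    rwa [S.act_inv_act, show n⁻¹ * (n * g * n⁻¹) * n⁻¹⁻¹ = g by group] at this
  · rw [Finset.image_image, show S.act n⁻¹ ∘ S.act n = id from funext (S.act_inv_act n), Finset.image_id]
  · rw [Finset.image_image, show S.act n ∘ S.act n⁻¹ = id from funext (S.act_act_inv n), Finset.image_id]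
  · rw [Finset.card_image_of_injective _ (S.act_injective n)]

open Classical in
/-- Residues of opposite subspaces have the same count. -/
theorem chi_transfer {B W Y : Submodule F V} {g : G} (hW : S.TS W) (hY : S.TS Y) (hBW : B ≤ W)
    (hBY : B ≤ Y) (h1 : Y ⊓ S.perp W = B) (h2 : W ⊓ S.perp Y = B) (hgW : g ∈ S.stab W)
    (hgY : g ∈ S.stab Y) : S.chi Y g = S.chi W g := by
  have key : ∀ (A C : Submodule F V), S.TS A → B ≤ C → B ≤ A → A ⊓ S.perp C = B →
      C ⊓ S.perp A = B → g ∈ S.stab A →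
      ∀ c ∈ S.fchains C g, c.image (fun Z => Z ⊓ S.perp A ⊔ A) ∈ S.fchains A g := by
    intro A C hA hBC hBA e1 e2 hgA c hc
    simp only [S.mem_fchains, Finset.forall_mem_image] at hc ⊢
    refine ⟨⟨fun Z hZ => ⟨S.TS_pull hA (hc.1.1 Z hZ).1, ?_⟩, fun A' hA' Z hZ => (hc.1.2 A' hA' Z hZ).imp
      (fun h => sup_le_sup_right (inf_le_inf_right _ h) _)
      (fun h => sup_le_sup_right (inf_le_inf_right _ h) _)⟩,
      fun Z hZ => S.stab_sup (S.stab_inf (hc.2 Z hZ) (S.stab_perp hgA)) hgA⟩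
    refine lt_of_le_not_ge le_sup_right fun hle => ?_
    have h := S.recover (hc.1.1 Z hZ).1 hBC hBA (hc.1.1 Z hZ).2.le e1
    rw [le_antisymm hle le_sup_right, e1, sup_eq_right.2 hBC] at h
    exact (hc.1.1 Z hZ).2.ne h
  have inv : ∀ (A C : Submodule F V), B ≤ C → B ≤ A → A ⊓ S.perp C = B →
      ∀ c ∈ S.fchains C g, (c.image (fun Z => Z ⊓ S.perp A ⊔ A)).image
        (fun Z => Z ⊓ S.perp C ⊔ C) = c := by
    intro A C hBC hBA e1 c hc
    simp only [S.mem_fchains] at hc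
    rw [Finset.image_image]
    conv_rhs => rw [← Finset.image_id (s := c)]
    exact Finset.image_congr fun Z hZ => S.recover (hc.1.1 Z hZ).1 hBC hBA (hc.1.1 Z hZ).2.le e1
  refine Finset.sum_bij' (fun c _ => c.image fun Z => Z ⊓ S.perp W ⊔ W)
    (fun c _ => c.image fun Z => Z ⊓ S.perp Y ⊔ Y)
    (fun c hc => key W Y hW hBY hBW h2 h1 hgW c hc) (fun c hc => key Y W hY hBW hBY h1 h2 hgY c hc)
    (fun c hc => inv W Y hBY hBW h2 c hc) (fun c hc => inv Y W hBW hBY h1 c hc) (fun c hc => ?_)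
  rw [Finset.card_image_of_injOn]
  intro a ha b hb e
  simp only [S.mem_fchains] at hc
  have ea := S.recover (hc.1.1 a ha).1 hBY hBW (hc.1.1 a ha).2.le h2
  simp only at e
  rw [e, S.recover (hc.1.1 b hb).1 hBY hBW (hc.1.1 b hb).2.le h2] at ea
  exact ea.symm

/-! ### Sums over subgroups -/

variable [Finite G]

noncomputable local instance : Fintype G := Fintype.ofFinite _

open Classical in
/-- The sum of a function over a subgroup. -/
noncomputable def hsum (H : Subgroup G) (a : G → ℤ) : ℤ := ∑ g, if g ∈ H then a g else 0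

theorem hsum_congr {H : Subgroup G} {a b : G → ℤ} (h : ∀ g ∈ H, a g = b g) :
    hsum H a = hsum H b := by
  classical
  exact Finset.sum_congr rfl fun g _ => by by_cases hg : g ∈ H <;> simp [hg, h g]

theorem hsum_neg (H : Subgroup G) (a : G → ℤ) : hsum H (fun g => -a g) = -hsum H a := by
  classical
  simp only [hsum, ← Finset.sum_neg_distrib]
  exact Finset.sum_congr rfl fun g _ => by split <;> simp

theorem hsum_sub (H : Subgroup G) (a b : G → ℤ) :
    hsum H (fun g => a g - b g) = hsum H a - hsum H b := by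
  classical
  simp only [hsum, ← Finset.sum_sub_distrib]
  exact Finset.sum_congr rfl fun g _ => by split <;> simp

theorem hsum_one (H : Subgroup G) : hsum H (fun _ => 1) = (Nat.card H : ℤ) := by
  classical
  simp [hsum, Nat.card_eq_fintype_card, Fintype.card_subtype]

open Classical in
theorem hsum_swap (H : Subgroup G) (s : Finset (Submodule F V)) (a : Submodule F V → G → ℤ) :
    hsum H (fun g => ∑ Y ∈ s.filter (fun Y => g ∈ S.stab Y), a Y g) =
      ∑ Y ∈ s, hsum (H ⊓ S.stab Y) (a Y) := by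
  simp only [hsum]
  rw [Finset.sum_comm]
  refine Finset.sum_congr rfl fun g _ => ?_
  by_cases hg : g ∈ H
  · rw [if_pos hg, Finset.sum_filter]
    exact Finset.sum_congr rfl fun Y _ => by
      simp only [Subgroup.mem_inf, hg, true_and]
  · simp [hg]

open Classical in
theorem count_trans {N : Subgroup G} {Ω : Finset (Submodule F V)}
    (hstab : ∀ n ∈ N, ∀ Y ∈ Ω, S.act n Y ∈ Ω) (htr : ∀ Y ∈ Ω, ∀ Y' ∈ Ω, ∃ n ∈ N, S.act n Y = Y') :
    ∃ k : ℕ, (∀ Y ∈ Ω, ∀ Y' ∈ Ω,
      (Finset.univ.filter fun n => n ∈ N ∧ S.act n Y = Y').card = k) ∧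
        (Ω.Nonempty → Ω.card * k = Nat.card N) := by
  rcases Ω.eq_empty_or_nonempty with rfl | ⟨Y₀, hY₀⟩
  · exact ⟨0, by simp, fun h => absurd h Finset.not_nonempty_empty⟩
  refine ⟨(Finset.univ.filter fun n => n ∈ N ∧ S.act n Y₀ = Y₀).card, fun Y hY Y' hY' => ?_, fun _ => ?_⟩
  · obtain ⟨a, ha, ea⟩ := htr Y₀ hY₀ Y hY
    obtain ⟨b, hb, eb⟩ := htr Y₀ hY₀ Y' hY'
    refine Finset.card_bij' (fun n _ => b⁻¹ * n * a) (fun n _ => b * n * a⁻¹) (fun n hn => ?_)
      (fun n hn => ?_) (fun n _ => by group) (fun n _ => by group)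
    · simp only [Finset.mem_filter, Finset.mem_univ, true_and] at hn ⊢
      refine ⟨mul_mem (mul_mem (inv_mem hb) hn.1) ha, ?_⟩
      rw [S.act_mul, ea, S.act_mul, hn.2, ← eb, S.act_inv_act]
    · simp only [Finset.mem_filter, Finset.mem_univ, true_and] at hn ⊢
      refine ⟨mul_mem (mul_mem hb hn.1) (inv_mem ha), ?_⟩
      rw [S.act_mul, S.act_mul, ← ea, S.act_inv_act, hn.2, eb]
  · have h := Finset.card_eq_sum_card_fiberwise (s := Finset.univ.filter fun n => n ∈ N)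
      (f := fun n => S.act n Y₀) (t := Ω) (fun n hn => hstab n (Finset.mem_filter.1 hn).2 Y₀ hY₀)
    rw [Nat.card_eq_fintype_card, Fintype.card_subtype]
    refine (h.trans ?_).symm
    rw [Finset.sum_const_nat (m := (Finset.univ.filter fun n => n ∈ N ∧ S.act n Y₀ = Y₀).card)
      fun Y hY => ?_]
    obtain ⟨a, ha, ea⟩ := htr Y₀ hY₀ Y hY
    rw [Finset.filter_filter]
    refine Finset.card_bij' (fun n _ => a⁻¹ * n) (fun n _ => a * n) (fun n hn => ?_) (fun n hn => ?_)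
      (fun n _ => mul_inv_cancel_left _ _) (fun n _ => inv_mul_cancel_left _ _)
    · simp only [Finset.mem_filter, Finset.mem_univ, true_and] at hn ⊢
      exact ⟨mul_mem (inv_mem ha) hn.1, by rw [S.act_mul, hn.2, ← ea, S.act_inv_act]⟩
    · simp only [Finset.mem_filter, Finset.mem_univ, true_and] at hn ⊢
      exact ⟨mul_mem ha hn.1, by rw [S.act_mul, hn.2, ea]⟩

open Classical in
/-- Averaging over a transitive subgroup. -/
theorem average {H N : Subgroup G} (hNH : N ≤ H) {Ω : Finset (Submodule F V)} (hne : Ω.Nonempty)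
    (hstab : ∀ h ∈ H, ∀ Y ∈ Ω, S.act h Y ∈ Ω) (htr : ∀ Y ∈ Ω, ∀ Y' ∈ Ω, ∃ n ∈ N, S.act n Y = Y')
    (a : G → ℤ) (ha : ∀ g ∈ H, ∀ n ∈ N, a (g * n) = a g) :
    ∑ Y ∈ Ω, hsum (H ⊓ S.stab Y) a = hsum H a := by
  obtain ⟨k, hk, hkN⟩ := S.count_trans (fun n hn => hstab n (hNH hn)) htr
  rw [← S.hsum_swap H Ω (fun _ => a)]
  refine mul_left_cancel₀ (Nat.cast_ne_zero.2 (Nat.card_pos (α := N)).ne' : (Nat.card N : ℤ) ≠ 0) ?_
  have shift : ∀ n ∈ N, hsum H (fun g => ∑ _Y ∈ Ω.filter (fun Y => g ∈ S.stab Y), a g) =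
      hsum H (fun g => a g * ((Ω.filter fun Y => g * n ∈ S.stab Y).card : ℤ)) := by
    intro n hn
    simp only [hsum]
    rw [← Equiv.sum_comp (Equiv.mulRight n)]
    refine Finset.sum_congr rfl fun g _ => ?_
    simp only [Equiv.coe_mulRight]
    by_cases hg : g ∈ H
    · simp only [mul_mem hg (hNH hn), hg, if_true]
      rw [Finset.sum_const, nsmul_eq_mul, ha g hg n hn, mul_comm]
      congr!
    · simp only [Subgroup.mul_mem_cancel_right H (hNH hn), hg, if_false]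
  have total : ∀ g ∈ H, ∑ n ∈ Finset.univ.filter (fun n => n ∈ N),
      ((Ω.filter fun Y => g * n ∈ S.stab Y).card : ℤ) = Nat.card N := by
    intro g hg
    simp only [Finset.card_filter, Nat.cast_sum]
    rw [Finset.sum_comm, ← hkN hne, Nat.cast_mul, ← nsmul_eq_mul, ← Finset.sum_const]
    refine Finset.sum_congr rfl fun Y hY => ?_
    rw [← hk Y hY _ (hstab g⁻¹ (inv_mem hg) Y hY), Finset.card_filter, Nat.cast_sum,
      Finset.sum_filter]
    refine Finset.sum_congr rfl fun n _ => ?_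
    have e : S.act n Y = S.act g⁻¹ Y ↔ g * n ∈ S.stab Y := by
      rw [S.mem_stab, S.act_mul]
      exact ⟨fun h => by rw [h, S.act_act_inv], fun h => by rw [← S.act_inv_act g (S.act n Y), h]⟩
    by_cases hn : n ∈ N <;> simp [hn, e]
  calc (Nat.card N : ℤ) * hsum H (fun g => ∑ _Y ∈ Ω.filter (fun Y => g ∈ S.stab Y), a g)
      = ∑ n ∈ Finset.univ.filter (fun n => n ∈ N),
          hsum H (fun g => a g * ((Ω.filter fun Y => g * n ∈ S.stab Y).card : ℤ)) := by
        rw [← Finset.sum_congr rfl fun n hn => shift n (Finset.mem_filter.1 hn).2, Finset.sum_const,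
          nsmul_eq_mul, Nat.card_eq_fintype_card, Fintype.card_subtype]
    _ = (Nat.card N : ℤ) * hsum H a := by
        simp only [hsum]
        rw [Finset.sum_comm, Finset.mul_sum]
        refine Finset.sum_congr rfl fun g _ => ?_
        by_cases hg : g ∈ H
        · simp only [if_pos hg]
          rw [← Finset.mul_sum, total g hg, mul_comm]
        · simp [hg]

end Setting

end CfsgLib.SteinbergPolar
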