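import Mathlib

/-!
The complex of totally singular subspaces of a polar space: chains, their alternating count of
fixed elements, and the contraction along a totally singular subspace.
-/

set_option autoImplicit false
set_option linter.unusedSectionVars false

namespace CfsgLib.SteinbergPolar

/-- A group acting by isometries on a polar space given by a reflexive form and a notion of
singular vectors. -/
structure Setting (F V G : Type*) [Field F] [AddCommGroup V] [Module F V] [Group G] where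
  /-- The action. -/
  ρ : G →* (V ≃ₗ[F] V)
  ρ_inj : Function.Injective ρ
  /-- The form. -/
  f : V → V → F
  f_add : ∀ a b v, f (a + b) v = f a v + f b v
  f_smul : ∀ (c : F) a v, f (c • a) v = c * f a v
  f_symm0 : ∀ a b, f a b = 0 → f b a = 0
  f_inv : ∀ g a b, f (ρ g a) (ρ g b) = f a b
  /-- The singular vectors. -/
  sg : V → Prop
  sg_zero : sg 0
  sg_self : ∀ a, sg a → f a a = 0
  sg_smul : ∀ (c : F) a, sg a → sg (c • a)
  sg_add : ∀ a b, sg a → sg b → f a b = 0 → sg (a + b)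
  sg_inv : ∀ g a, sg a → sg (ρ g a)
  double_perp : ∀ (W : Submodule F V) (v : V),
    (∀ u, (∀ w ∈ W, f u w = 0) → f v u = 0) → v ∈ W
  adjust : ∀ v x, sg x → f v x ≠ 0 → ∃ c : F, sg (v + c • x)
  spec : ∀ x o o', sg x → sg o → sg o' → f o x = 1 → f o' x = 1 →
    ∃ g, ρ g x = x ∧ ρ g o = o' ∧ (∀ v, f v x = 0 → ∃ c : F, ρ g v = v + c • x) ∧
      ∀ v, f v x = 0 → f v o = 0 → f v o' = 0 → ρ g v = v

variable {F V G : Type*} [Field F] [AddCommGroup V] [Module F V] [Group G] (S : Setting F V G)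

namespace Setting

theorem f_zero (v : V) : S.f 0 v = 0 := by
  simpa using S.f_smul 0 0 v

theorem f_neg (a v : V) : S.f (-a) v = -S.f a v := by
  simpa using S.f_smul (-1) a v

theorem f_sub (a b v : V) : S.f (a - b) v = S.f a v - S.f b v := by
  rw [sub_eq_add_neg, S.f_add, S.f_neg, sub_eq_add_neg]

/-- The orthogonal of a subspace. -/
def perp (W : Submodule F V) : Submodule F V where
  carrier := {v | ∀ w ∈ W, S.f v w = 0}
  zero_mem' := fun w _ => S.f_zero w
  add_mem' := fun {a b} ha hb w hw => by rw [S.f_add, ha w hw, hb w hw, add_zero]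
  smul_mem' := fun c a ha w hw => by rw [S.f_smul, ha w hw, mul_zero]

theorem mem_perp {W : Submodule F V} {v : V} : v ∈ S.perp W ↔ ∀ w ∈ W, S.f v w = 0 := Iff.rfl

theorem perp_symm {A B : Submodule F V} (h : A ≤ S.perp B) : B ≤ S.perp A :=
  fun b hb a ha => S.f_symm0 _ _ (h ha b hb)

theorem perp_anti {A B : Submodule F V} (h : A ≤ B) : S.perp B ≤ S.perp A :=
  fun _ hv a ha => hv a (h ha)

theorem perp_perp (W : Submodule F V) : S.perp (S.perp W) = W :=
  le_antisymm (fun v hv => S.double_perp W v fun u hu => hv u hu) (S.perp_symm le_rfl)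

theorem perp_sup (A B : Submodule F V) : S.perp (A ⊔ B) = S.perp A ⊓ S.perp B := by
  refine le_antisymm (le_inf (S.perp_anti le_sup_left) (S.perp_anti le_sup_right)) fun v hv => ?_
  intro w hw
  obtain ⟨a, ha, b, hb, rfl⟩ := Submodule.mem_sup.1 hw
  exact S.f_symm0 _ _ (by rw [S.f_add, S.f_symm0 _ _ (hv.1 a ha), S.f_symm0 _ _ (hv.2 b hb),
    add_zero])

theorem perp_inf (A B : Submodule F V) : S.perp (A ⊓ B) = S.perp A ⊔ S.perp B := by
  conv_lhs => rw [← S.perp_perp A, ← S.perp_perp B, ← S.perp_sup, S.perp_perp]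

theorem perp_mono_span {B : Submodule F V} {x v : V} (hB : v ∈ S.perp B) (hx : S.f v x = 0) :
    v ∈ S.perp (B ⊔ Submodule.span F {x}) := by
  rw [S.perp_sup]
  refine ⟨hB, fun w hw => ?_⟩
  obtain ⟨c, rfl⟩ := Submodule.mem_span_singleton.1 hw
  exact S.f_symm0 _ _ (by rw [S.f_smul, S.f_symm0 _ _ hx, mul_zero])

/-- Totally singular subspaces. -/
def TS (W : Submodule F V) : Prop := (∀ v ∈ W, S.sg v) ∧ W ≤ S.perp W

theorem TS.mono {A B : Submodule F V} (h : S.TS B) (hle : A ≤ B) : S.TS A :=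
  ⟨fun v hv => h.1 v (hle hv), hle.trans (h.2.trans (S.perp_anti hle))⟩

theorem TS.sup {A B : Submodule F V} (hA : S.TS A) (hB : S.TS B) (h : A ≤ S.perp B) :
    S.TS (A ⊔ B) := by
  refine ⟨fun v hv => ?_, ?_⟩
  · obtain ⟨a, ha, b, hb, rfl⟩ := Submodule.mem_sup.1 hv
    exact S.sg_add a b (hA.1 a ha) (hB.1 b hb) (h ha b hb)
  · rw [S.perp_sup]
    exact sup_le (le_inf hA.2 h) (le_inf (S.perp_symm h) hB.2)

theorem TS_bot : S.TS ⊥ := by
  refine ⟨fun v hv => ?_, bot_le⟩
  rw [(Submodule.mem_bot F).1 hv]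
  exact S.sg_zero

theorem TS_span {x : V} (hx : S.sg x) : S.TS (Submodule.span F {x}) := by
  refine ⟨fun v hv => ?_, ?_⟩
  · obtain ⟨c, rfl⟩ := Submodule.mem_span_singleton.1 hv
    exact S.sg_smul c x hx
  · refine (Submodule.span_singleton_le_iff_mem x _).2 fun w hw => ?_
    obtain ⟨c, rfl⟩ := Submodule.mem_span_singleton.1 hw
    exact S.f_symm0 _ _ (by rw [S.f_smul, S.sg_self x hx, mul_zero])

theorem TS.sup_span {B : Submodule F V} (hB : S.TS B) {x : V} (hx : S.sg x) (hxB : x ∈ S.perp B) :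
    S.TS (B ⊔ Submodule.span F {x}) :=
  hB.sup S (S.TS_span hx) (S.perp_symm ((Submodule.span_singleton_le_iff_mem x _).2 hxB))

/-- The action on subspaces. -/
def act (g : G) (W : Submodule F V) : Submodule F V := W.map (S.ρ g).toLinearMap

theorem mem_act {g : G} {W : Submodule F V} {v : V} : v ∈ S.act g W ↔ ∃ w ∈ W, S.ρ g w = v :=
  Submodule.mem_map

theorem act_one (W : Submodule F V) : S.act 1 W = W := by
  ext v; simp [S.mem_act, map_one]

theorem act_mul (g h : G) (W : Submodule F V) : S.act (g * h) W = S.act g (S.act h W) := by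
  ext v; simp [S.mem_act, map_mul]

theorem act_inv_act (g : G) (W : Submodule F V) : S.act g⁻¹ (S.act g W) = W := by
  rw [← S.act_mul, inv_mul_cancel, S.act_one]

theorem act_act_inv (g : G) (W : Submodule F V) : S.act g (S.act g⁻¹ W) = W := by
  rw [← S.act_mul, mul_inv_cancel, S.act_one]

theorem act_mono (g : G) {A B : Submodule F V} (h : A ≤ B) : S.act g A ≤ S.act g B :=
  Submodule.map_mono h

theorem act_sup (g : G) (A B : Submodule F V) : S.act g (A ⊔ B) = S.act g A ⊔ S.act g B :=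
  Submodule.map_sup _ _ _

theorem act_inf (g : G) (A B : Submodule F V) : S.act g (A ⊓ B) = S.act g A ⊓ S.act g B :=
  Submodule.map_inf _ (S.ρ g).injective

theorem act_injective (g : G) : Function.Injective (S.act g) := fun A B h => by
  rw [← S.act_inv_act g A, h, S.act_inv_act]

theorem act_perp (g : G) (W : Submodule F V) : S.act g (S.perp W) = S.perp (S.act g W) := by
  ext v
  obtain ⟨u, rfl⟩ := (S.ρ g).surjective v
  constructor
  · intro hu w hw
    obtain ⟨u', hu', e⟩ := S.mem_act.1 hu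
    obtain rfl : u' = u := (S.ρ g).injective e
    obtain ⟨w', hw', rfl⟩ := S.mem_act.1 hw
    rw [S.f_inv]; exact hu' w' hw'
  · intro hu
    refine S.mem_act.2 ⟨u, fun w hw => ?_, rfl⟩
    rw [← S.f_inv g]
    exact hu _ (S.mem_act.2 ⟨w, hw, rfl⟩)

theorem TS.act {W : Submodule F V} (h : S.TS W) (g : G) : S.TS (S.act g W) := by
  refine ⟨fun v hv => ?_, ?_⟩
  · obtain ⟨w, hw, rfl⟩ := S.mem_act.1 hv
    exact S.sg_inv g w (h.1 w hw)
  · rw [← S.act_perp]; exact S.act_mono g h.2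

/-- The stabilizer of a subspace. -/
def stab (W : Submodule F V) : Subgroup G where
  carrier := {g | S.act g W = W}
  one_mem' := S.act_one W
  mul_mem' := fun {a b} (ha : S.act a W = W) (hb : S.act b W = W) => by
    show S.act (a * b) W = W
    rw [S.act_mul, hb, ha]
  inv_mem' := fun {a} (ha : S.act a W = W) => by
    show S.act a⁻¹ W = W
    conv_lhs => rw [← ha, S.act_inv_act]

theorem mem_stab {g : G} {W : Submodule F V} : g ∈ S.stab W ↔ S.act g W = W := Iff.rfl

theorem stab_sup {g : G} {A B : Submodule F V} (hA : g ∈ S.stab A) (hB : g ∈ S.stab B) :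
    g ∈ S.stab (A ⊔ B) := by
  rw [S.mem_stab, S.act_sup, hA, hB]

theorem stab_inf {g : G} {A B : Submodule F V} (hA : g ∈ S.stab A) (hB : g ∈ S.stab B) :
    g ∈ S.stab (A ⊓ B) := by
  rw [S.mem_stab, S.act_inf, hA, hB]

theorem stab_perp {g : G} {A : Submodule F V} (hA : g ∈ S.stab A) : g ∈ S.stab (S.perp A) := by
  rw [S.mem_stab, S.act_perp, hA]

theorem mem_stab_of_le [Finite V] {g : G} {W : Submodule F V} (h : ∀ v ∈ W, S.ρ g v ∈ W) :
    g ∈ S.stab W := by
  have hle : S.act g W ≤ W := fun v hv => by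
    obtain ⟨w, hw, rfl⟩ := S.mem_act.1 hv
    exact h w hw
  refine SetLike.coe_injective (Set.eq_of_subset_of_ncard_le hle ?_ (Set.toFinite _))
  rw [show (S.act g W : Set V) = S.ρ g '' W from Submodule.map_coe _ _,
    Set.ncard_image_of_injective _ (S.ρ g).injective]

/-- A cover in the poset of totally singular subspaces. -/
def Cover (B W : Submodule F V) : Prop := ∃ x ∈ W, x ∉ B ∧ W = B ⊔ Submodule.span F {x}

theorem Cover.lt {B W : Submodule F V} (h : Cover B W) : B < W := by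
  obtain ⟨x, hx, hxB, rfl⟩ := h
  exact lt_of_le_not_ge le_sup_left fun hle => hxB (hle hx)

theorem Cover.eq_sup {B W : Submodule F V} (h : Cover B W) {y : V} (hy : y ∈ W) (hyB : y ∉ B) :
    W = B ⊔ Submodule.span F {y} := by
  obtain ⟨x, hx, hxB, rfl⟩ := h
  refine le_antisymm (sup_le le_sup_left ?_)
    (sup_le le_sup_left ((Submodule.span_singleton_le_iff_mem y _).2 hy))
  obtain ⟨b, hb, z, hz, e⟩ := Submodule.mem_sup.1 hy
  obtain ⟨c, rfl⟩ := Submodule.mem_span_singleton.1 hz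
  have hc : c ≠ 0 := fun h => hyB (by rw [← e, h, zero_smul, add_zero]; exact hb)
  refine (Submodule.span_singleton_le_iff_mem x _).2 ?_
  have : x = c⁻¹ • (y - b) := by rw [← e, add_sub_cancel_left, smul_smul, inv_mul_cancel₀ hc,
    one_smul]
  rw [this]
  exact Submodule.smul_mem _ _ (sub_mem (Submodule.mem_sup_right (Submodule.mem_span_singleton_self y))
    (Submodule.mem_sup_left hb))

theorem Cover.eq_of_lt {B W Y : Submodule F V} (h : Cover B W) (h1 : B < Y) (h2 : Y ≤ W) :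
    Y = W := by
  obtain ⟨y, hy, hyB⟩ := SetLike.exists_of_lt h1
  refine le_antisymm h2 ?_
  rw [h.eq_sup (h2 hy) hyB]
  exact sup_le h1.le ((Submodule.span_singleton_le_iff_mem y _).2 hy)

theorem Cover.of_forall {B W : Submodule F V} (hlt : B < W)
    (h : ∀ Y, B < Y → Y ≤ W → Y = W) : Cover B W := by
  obtain ⟨x, hx, hxB⟩ := SetLike.exists_of_lt hlt
  refine ⟨x, hx, hxB, (h _ ?_ ?_).symm⟩
  · exact lt_of_le_not_ge le_sup_left fun hle => hxB (hle (Submodule.mem_sup_right
      (Submodule.mem_span_singleton_self x)))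
  · exact sup_le hlt.le ((Submodule.span_singleton_le_iff_mem x _).2 hx)

/-! ### Chains -/

/-- The totally singular subspaces properly above `B`. -/
def Above (B Z : Submodule F V) : Prop := S.TS Z ∧ B < Z

variable [Finite V]

noncomputable local instance : Fintype (Submodule F V) := Fintype.ofFinite _

open Classical in
/-- The chains of totally singular subspaces properly above `B`. -/
noncomputable def chains (B : Submodule F V) : Finset (Finset (Submodule F V)) :=
  Finset.univ.filter fun c =>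
    (∀ Z ∈ c, S.Above B Z) ∧ ∀ Y ∈ c, ∀ Z ∈ c, Y ≤ Z ∨ Z ≤ Y

theorem mem_chains {B : Submodule F V} {c : Finset (Submodule F V)} :
    c ∈ S.chains B ↔ (∀ Z ∈ c, S.Above B Z) ∧ ∀ Y ∈ c, ∀ Z ∈ c, Y ≤ Z ∨ Z ≤ Y := by
  simp [chains]

open Classical in
/-- The fixed chains. -/
noncomputable def fchains (B : Submodule F V) (g : G) : Finset (Finset (Submodule F V)) :=
  (S.chains B).filter fun c => ∀ Z ∈ c, g ∈ S.stab Z

theorem mem_fchains {B : Submodule F V} {g : G} {c : Finset (Submodule F V)} :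
    c ∈ S.fchains B g ↔ ((∀ Z ∈ c, S.Above B Z) ∧ ∀ Y ∈ c, ∀ Z ∈ c, Y ≤ Z ∨ Z ≤ Y) ∧
      ∀ Z ∈ c, g ∈ S.stab Z := by
  simp [fchains, S.mem_chains]

/-- The alternating number of fixed chains. -/
noncomputable def chi (B : Submodule F V) (g : G) : ℤ :=
  ∑ c ∈ S.fchains B g, (-1) ^ c.card

theorem exists_min {c : Finset (Submodule F V)} (hc : ∀ Y ∈ c, ∀ Z ∈ c, Y ≤ Z ∨ Z ≤ Y)
    (hne : c.Nonempty) : ∃ Y ∈ c, ∀ Z ∈ c, Y ≤ Z := by
  obtain ⟨Y, hY, hmin⟩ := c.exists_minimal hne
  exact ⟨Y, hY, fun Z hZ => (hc Y hY Z hZ).elim id fun h => hmin hZ h⟩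

theorem exists_max {c : Finset (Submodule F V)} (hc : ∀ Y ∈ c, ∀ Z ∈ c, Y ≤ Z ∨ Z ≤ Y)
    (hne : c.Nonempty) : ∃ Y ∈ c, ∀ Z ∈ c, Z ≤ Y := by
  obtain ⟨Y, hY, hmax⟩ := c.exists_maximal hne
  exact ⟨Y, hY, fun Z hZ => (hc Z hZ Y hY).elim id fun h => hmax hZ h⟩

theorem inf_eq_min {c : Finset (Submodule F V)} {Y : Submodule F V} (hY : Y ∈ c)
    (h : ∀ Z ∈ c, Y ≤ Z) : c.inf id = Y :=
  le_antisymm (Finset.inf_le (f := id) hY) (Finset.le_inf h)

open Classical in
/-- Inserting and erasing a canonical element cancels a signed count. -/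
theorem sum_toggle {α : Type*} (s : Finset (Finset α)) (t : Finset α → α)
    (h1 : ∀ c ∈ s, t c ∉ c → insert (t c) c ∈ s ∧ t (insert (t c) c) = t c)
    (h2 : ∀ c ∈ s, t c ∈ c → c.erase (t c) ∈ s ∧ t (c.erase (t c)) = t c) :
    ∑ c ∈ s, (-1 : ℤ) ^ c.card = 0 := by
  refine Finset.sum_involution (fun c _ => if t c ∈ c then c.erase (t c) else insert (t c) c)
    (fun c hc => ?_) (fun c hc _ => ?_) (fun c hc => ?_) (fun c hc => ?_)
  · by_cases h : t c ∈ c
    · rw [if_pos h, ← Finset.card_erase_add_one h, pow_succ]; ring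
    · rw [if_neg h, Finset.card_insert_of_notMem h, pow_succ]; ring
  · by_cases h : t c ∈ c
    · rw [if_pos h]; exact fun e => Finset.erase_eq_self.1 e h
    · rw [if_neg h]; exact fun e => h (Finset.insert_eq_self.1 e)
  · by_cases h : t c ∈ c
    · rw [if_pos h]; exact (h2 c hc h).1
    · rw [if_neg h]; exact (h1 c hc h).1
  · by_cases h : t c ∈ c
    · obtain ⟨-, e⟩ := h2 c hc h
      simp only [if_pos h]
      rw [e, if_neg (Finset.notMem_erase _ _), Finset.insert_erase h]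
    · obtain ⟨-, e⟩ := h1 c hc h
      simp only [if_neg h]
      rw [e, if_pos (Finset.mem_insert_self _ _), Finset.erase_insert h]

open Classical in
/-- A signed sum over nonempty fixed chains, by the least element. -/
theorem sum_min (B : Submodule F V) (g : G) (P : Submodule F V → Prop) :
    ∑ c ∈ (S.fchains B g).filter (fun c => c.Nonempty ∧ P (c.inf id)), (-1 : ℤ) ^ c.card =
      -∑ Y ∈ Finset.univ.filter (fun Y => S.Above B Y ∧ P Y ∧ g ∈ S.stab Y), S.chi Y g := by
  rw [← Finset.sum_neg_distrib]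
  simp only [chi, ← Finset.sum_neg_distrib]
  rw [Finset.sum_sigma']
  have hdata : ∀ c ∈ (S.fchains B g).filter (fun c => c.Nonempty ∧ P (c.inf id)),
      c.inf id ∈ c ∧ ∀ Z ∈ c, c.inf id ≤ Z := fun c hc => by
    simp only [Finset.mem_filter, S.mem_fchains] at hc
    obtain ⟨Y, hY, hmin⟩ := exists_min hc.1.1.2 hc.2.1
    rw [inf_eq_min hY hmin]
    exact ⟨hY, hmin⟩
  refine Finset.sum_bij' (fun c _ => ⟨c.inf id, c.erase (c.inf id)⟩)
    (fun p _ => insert p.1 p.2) (fun c hc => ?_) (fun p hp => ?_) (fun c hc => ?_) (fun p hp => ?_)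
    (fun c hc => ?_)
  · obtain ⟨hY, hmin⟩ := hdata c hc
    simp only [Finset.mem_filter, S.mem_fchains] at hc
    simp only [Finset.mem_sigma, Finset.mem_filter, Finset.mem_univ, true_and, S.mem_fchains]
    refine ⟨⟨hc.1.1.1 _ hY, hc.2.2, hc.1.2 _ hY⟩, ⟨fun Z hZ => ?_, fun Y' hY' Z hZ => ?_⟩,
      fun Z hZ => hc.1.2 Z (Finset.mem_of_mem_erase hZ)⟩
    · exact ⟨(hc.1.1.1 Z (Finset.mem_of_mem_erase hZ)).1,
        lt_of_le_of_ne (hmin Z (Finset.mem_of_mem_erase hZ)) (Finset.ne_of_mem_erase hZ).symm⟩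
    · exact hc.1.1.2 _ (Finset.mem_of_mem_erase hY') _ (Finset.mem_of_mem_erase hZ)
  · obtain ⟨Y, c⟩ := p
    simp only [Finset.mem_sigma, Finset.mem_filter, Finset.mem_univ, true_and, S.mem_fchains] at hp
    obtain ⟨⟨hY, hP, hgY⟩, ⟨hab, hch⟩, hfix⟩ := hp
    have hmin : ∀ Z ∈ insert Y c, Y ≤ Z := fun Z hZ => by
      rcases Finset.mem_insert.1 hZ with rfl | hZ
      · exact le_rfl
      · exact (hab Z hZ).2.le
    simp only [Finset.mem_filter, S.mem_fchains]
    refine ⟨⟨⟨fun Z hZ => ?_, fun Y' hY' Z hZ => ?_⟩, fun Z hZ => ?_⟩,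
      Finset.insert_nonempty _ _, by rwa [inf_eq_min (Finset.mem_insert_self _ _) hmin]⟩
    · rcases Finset.mem_insert.1 hZ with rfl | hZ
      · exact hY
      · exact ⟨(hab Z hZ).1, hY.2.trans (hab Z hZ).2⟩
    · rcases Finset.mem_insert.1 hY' with e | hY''
      · exact Or.inl (e ▸ hmin Z hZ)
      · rcases Finset.mem_insert.1 hZ with e | hZ'
        · exact Or.inr (e ▸ (hab _ hY'').2.le)
        · exact hch _ hY'' _ hZ'
    · rcases Finset.mem_insert.1 hZ with rfl | hZ
      · exact hgY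
      · exact hfix Z hZ
  · exact Finset.insert_erase (hdata c hc).1
  · obtain ⟨Y, c⟩ := p
    simp only [Finset.mem_sigma, Finset.mem_filter, Finset.mem_univ, true_and, S.mem_fchains] at hp
    obtain ⟨⟨hY, hP, hgY⟩, ⟨hab, hch⟩, hfix⟩ := hp
    have hinf : (insert Y c).inf id = Y := inf_eq_min (Finset.mem_insert_self _ _) fun Z hZ => by
      rcases Finset.mem_insert.1 hZ with rfl | hZ
      · exact le_rfl
      · exact (hab Z hZ).2.le
    have hYc : Y ∉ c := fun h => lt_irrefl _ (hab Y h).2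
    simp only [hinf, Finset.erase_insert hYc]
  · simp only
    rw [← Finset.card_erase_add_one (hdata c hc).1, pow_succ]; ring

open Classical in
theorem chi_eq_one_sub (B : Submodule F V) (g : G) :
    S.chi B g = 1 - ∑ Y ∈ Finset.univ.filter (fun Y => S.Above B Y ∧ g ∈ S.stab Y), S.chi Y g := by
  rw [chi, ← Finset.sum_filter_add_sum_filter_not (S.fchains B g) (fun c => c.Nonempty)]
  have h := S.sum_min B g (fun _ => True)
  simp only [and_true, true_and] at h
  have he : (S.fchains B g).filter (fun c => ¬ c.Nonempty) =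
      {(∅ : Finset (Submodule F V))} := by
    ext c
    simp only [Finset.mem_filter, Finset.not_nonempty_iff_eq_empty, Finset.mem_singleton]
    refine ⟨fun hc => hc.2, fun hc => ⟨?_, hc⟩⟩
    subst hc
    simp [S.mem_fchains]
  rw [h, he, Finset.sum_singleton, Finset.card_empty, pow_zero]
  ring

open Classical in
/-- The contraction along `W`. -/
theorem contract {B W K : Submodule F V} {g : G} (hW : S.TS W) (hBW : B < W) (hWK : W ≤ K)
    (hK : K ≤ S.perp W) (hgW : g ∈ S.stab W) (hgK : g ∈ S.stab K) :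
    S.chi B g =
      -∑ Y ∈ Finset.univ.filter (fun Y => S.Above B Y ∧ Y ⊓ K = B ∧ g ∈ S.stab Y), S.chi Y g := by
  have hBK : B ≤ K := hBW.le.trans hWK
  refine Eq.trans ?_ ((S.sum_min B g (fun Y => Y ⊓ K = B)).trans
    (by congr!))
  rw [chi,
    ← Finset.sum_filter_add_sum_filter_not (S.fchains B g) (fun c => ∀ Z ∈ c, Z ≤ K)]
  -- chains inside `K`
  have h1 : ∑ c ∈ (S.fchains B g).filter (fun c => ∀ Z ∈ c, Z ≤ K), (-1 : ℤ) ^ c.card = 0 := by
    let t : Finset (Submodule F V) → Submodule F V := fun c =>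
      W ⊔ (c.filter fun Z => ¬ W ≤ Z).sup id
    have hWt : ∀ c, W ≤ t c := fun c => le_sup_left
    refine sum_toggle _ t (fun c hc _ => ?_) (fun c hc _ => ?_)
    · refine ⟨?_, ?_⟩
      · simp only [Finset.mem_filter, S.mem_fchains] at hc ⊢
        obtain ⟨⟨⟨hab, hch⟩, hfix⟩, hle⟩ := hc
        have htK : t c ≤ K := sup_le hWK (Finset.sup_le fun Z hZ => hle Z (Finset.mem_filter.1 hZ).1)
        have hcomp : ∀ Z ∈ c, Z ≤ t c ∨ t c ≤ Z := fun Z hZ => by
          by_cases hWZ : W ≤ Z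
          · refine Or.inr (sup_le hWZ (Finset.sup_le fun Y hY => ?_))
            obtain ⟨hYc, hYW⟩ := Finset.mem_filter.1 hY
            exact (hch Y hYc Z hZ).elim id fun h => absurd (hWZ.trans h) hYW
          · exact Or.inl (le_sup_of_le_right (Finset.le_sup (f := id)
              (Finset.mem_filter.2 ⟨hZ, hWZ⟩)))
        have htS : S.TS (t c) ∧ g ∈ S.stab (t c) := by
          rcases (c.filter fun Z => ¬ W ≤ Z).eq_empty_or_nonempty with he | hne
          · simp only [t, he, Finset.sup_empty, sup_bot_eq]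
            exact ⟨hW, hgW⟩
          · obtain ⟨Y, hY, hmax⟩ := exists_max (fun A hA Z hZ => hch A (Finset.mem_filter.1 hA).1 Z
              (Finset.mem_filter.1 hZ).1) hne
            have e : (c.filter fun Z => ¬ W ≤ Z).sup id = Y :=
              le_antisymm (Finset.sup_le hmax) (Finset.le_sup (f := id) hY)
            simp only [t, e]
            obtain ⟨hYc, -⟩ := Finset.mem_filter.1 hY
            exact ⟨hW.sup S (hab Y hYc).1 (S.perp_symm ((hle Y hYc).trans hK)),
              S.stab_sup hgW (hfix Y hYc)⟩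
        refine ⟨⟨⟨fun Z hZ => ?_, fun Y hY Z hZ => ?_⟩, fun Z hZ => ?_⟩, fun Z hZ => ?_⟩
        · rcases Finset.mem_insert.1 hZ with e | hZ'
          · exact e ▸ ⟨htS.1, hBW.trans_le (hWt c)⟩
          · exact hab Z hZ'
        · rcases Finset.mem_insert.1 hY with e | hY'
          · rcases Finset.mem_insert.1 hZ with e' | hZ'
            · exact Or.inl (e.trans e'.symm).le
            · exact e ▸ (hcomp Z hZ').symm
          · rcases Finset.mem_insert.1 hZ with e' | hZ'
            · exact e' ▸ hcomp Y hY'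
            · exact hch Y hY' Z hZ'
        · rcases Finset.mem_insert.1 hZ with e | hZ'
          · exact e ▸ htS.2
          · exact hfix Z hZ'
        · rcases Finset.mem_insert.1 hZ with e | hZ'
          · exact e ▸ htK
          · exact hle Z hZ'
      · simp only [t]
        rw [Finset.filter_insert, if_neg (not_not.2 le_sup_left)]
    · refine ⟨?_, ?_⟩
      · simp only [Finset.mem_filter, S.mem_fchains] at hc ⊢
        obtain ⟨⟨⟨hab, hch⟩, hfix⟩, hle⟩ := hc
        exact ⟨⟨⟨fun Z hZ => hab Z (Finset.mem_of_mem_erase hZ),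
          fun Y hY Z hZ => hch Y (Finset.mem_of_mem_erase hY) Z (Finset.mem_of_mem_erase hZ)⟩,
          fun Z hZ => hfix Z (Finset.mem_of_mem_erase hZ)⟩,
          fun Z hZ => hle Z (Finset.mem_of_mem_erase hZ)⟩
      · simp only [t]
        rw [Finset.filter_erase, Finset.erase_eq_of_notMem]
        simp
  rw [h1, zero_add, ← Finset.sum_filter_add_sum_filter_not
    ((S.fchains B g).filter (fun c => ¬ ∀ Z ∈ c, Z ≤ K))
    (fun c => (c.filter fun Z => ¬ Z ≤ K).inf id ⊓ K = B)]
  -- chains whose first element outside `K` meets `K` above `B`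
  have h2 : ∑ c ∈ ((S.fchains B g).filter (fun c => ¬ ∀ Z ∈ c, Z ≤ K)).filter
      (fun c => ¬ (c.filter fun Z => ¬ Z ≤ K).inf id ⊓ K = B), (-1 : ℤ) ^ c.card = 0 := by
    let t : Finset (Submodule F V) → Submodule F V := fun c =>
      (c.filter fun Z => ¬ Z ≤ K).inf id ⊓ K
    have htK : ∀ c, t c ≤ K := fun c => inf_le_right
    refine sum_toggle _ t (fun c hc _ => ?_) (fun c hc _ => ?_)
    · have e : (insert (t c) c).filter (fun Z => ¬ Z ≤ K) = c.filter fun Z => ¬ Z ≤ K := by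
        rw [Finset.filter_insert, if_neg (not_not.2 (htK c))]
      refine ⟨?_, by simp only [t] at e ⊢; convert congrArg (fun N => N.inf id ⊓ K) e⟩
      simp only [Finset.mem_filter, S.mem_fchains, e, not_forall] at hc ⊢
      obtain ⟨⟨⟨⟨hab, hch⟩, hfix⟩, Z₁, hZ₁, hZ₁K⟩, hne⟩ := hc
      set N := c.filter fun Z => ¬ Z ≤ K with hN
      obtain ⟨Y, hY, hmin⟩ := exists_min (c := N) (fun A hA Z hZ => hch A (Finset.mem_filter.1 hA).1 Z
        (Finset.mem_filter.1 hZ).1) ⟨Z₁, Finset.mem_filter.2 ⟨hZ₁, hZ₁K⟩⟩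
      have eY : N.inf id = Y := inf_eq_min hY hmin
      obtain ⟨hYc, hYK⟩ := Finset.mem_filter.1 hY
      have htY : t c = Y ⊓ K := by rw [← eY]
      have hcomp : ∀ Z ∈ c, Z ≤ t c ∨ t c ≤ Z := fun Z hZ => by
        by_cases hZK : Z ≤ K
        · refine Or.inl (htY ▸ le_inf ((hch Z hZ Y hYc).elim id fun h => absurd (h.trans hZK) hYK) hZK)
        · exact Or.inr (htY ▸ inf_le_left.trans (hmin Z (Finset.mem_filter.2 ⟨hZ, hZK⟩)))
      have hab' : S.Above B (t c) := ⟨(hab Y hYc).1.mono S (htY ▸ inf_le_left),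
        lt_of_le_of_ne (htY ▸ le_inf (hab Y hYc).2.le hBK) (Ne.symm hne)⟩
      refine ⟨⟨⟨⟨fun Z hZ => ?_, fun Y' hY' Z hZ => ?_⟩, fun Z hZ => ?_⟩,
        Z₁, Finset.mem_insert_of_mem hZ₁, hZ₁K⟩, by convert hne using 4; convert e⟩
      · rcases Finset.mem_insert.1 hZ with e | hZ'
        · exact e ▸ hab'
        · exact hab Z hZ'
      · rcases Finset.mem_insert.1 hY' with e | hY''
        · rcases Finset.mem_insert.1 hZ with e' | hZ'
          · exact Or.inl (e.trans e'.symm).le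
          · exact e ▸ (hcomp Z hZ').symm
        · rcases Finset.mem_insert.1 hZ with e' | hZ'
          · exact e' ▸ hcomp Y' hY''
          · exact hch Y' hY'' Z hZ'
      · rcases Finset.mem_insert.1 hZ with e | hZ'
        · exact e ▸ htY ▸ S.stab_inf (hfix Y hYc) hgK
        · exact hfix Z hZ'
    · have e : (c.erase (t c)).filter (fun Z => ¬ Z ≤ K) = c.filter fun Z => ¬ Z ≤ K := by
        rw [Finset.filter_erase, Finset.erase_eq_of_notMem]
        simp [htK c]
      refine ⟨?_, by simp only [t] at e ⊢; convert congrArg (fun N => N.inf id ⊓ K) e⟩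
      simp only [Finset.mem_filter, S.mem_fchains, e, not_forall] at hc ⊢
      obtain ⟨⟨⟨⟨hab, hch⟩, hfix⟩, Z₁, hZ₁, hZ₁K⟩, hne⟩ := hc
      exact ⟨⟨⟨⟨fun Z hZ => hab Z (Finset.mem_of_mem_erase hZ),
        fun Y hY Z hZ => hch Y (Finset.mem_of_mem_erase hY) Z (Finset.mem_of_mem_erase hZ)⟩,
        fun Z hZ => hfix Z (Finset.mem_of_mem_erase hZ)⟩,
        Z₁, Finset.mem_erase.2 ⟨fun h => hZ₁K (h ▸ htK c), hZ₁⟩, hZ₁K⟩, by convert hne using 4; convert e⟩
  rw [h2, add_zero]
  refine Finset.sum_congr ?_ fun _ _ => rfl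
  ext c
  simp only [Finset.mem_filter, S.mem_fchains]
  constructor
  · rintro ⟨⟨⟨⟨hab, hch⟩, hfix⟩, hnot⟩, hB⟩
    simp only [not_forall] at hnot
    obtain ⟨Z₁, hZ₁, hZ₁K⟩ := hnot
    obtain ⟨Y, hY, hmin⟩ := exists_min (c := c.filter fun Z => ¬ Z ≤ K)
      (fun A hA Z hZ => hch A (Finset.mem_filter.1 hA).1 Z (Finset.mem_filter.1 hZ).1)
      ⟨Z₁, Finset.mem_filter.2 ⟨hZ₁, hZ₁K⟩⟩
    obtain ⟨hYc, hYK⟩ := Finset.mem_filter.1 hY
    rw [inf_eq_min hY hmin] at hB
    have hall : c.filter (fun Z => ¬ Z ≤ K) = c := Finset.filter_eq_self.2 fun Z hZ hZK => by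
      have h := (hch Z hZ Y hYc).elim id fun h => absurd (h.trans hZK) hYK
      exact absurd (le_inf h hZK) (fun h' => not_le_of_gt (hab Z hZ).2 (hB ▸ h'))
    rw [hall] at hY hmin
    exact ⟨⟨⟨hab, hch⟩, hfix⟩, ⟨Z₁, hZ₁⟩, by rw [inf_eq_min hY hmin]; exact hB⟩
  · rintro ⟨⟨⟨hab, hch⟩, hfix⟩, hne, hB⟩
    obtain ⟨Y, hY, hmin⟩ := exists_min hch hne
    rw [inf_eq_min hY hmin] at hB
    have hYK : ¬ Y ≤ K := fun h => not_le_of_gt (hab Y hY).2 (by rw [← hB, inf_eq_left.2 h])
    have hall : c.filter (fun Z => ¬ Z ≤ K) = c :=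
      Finset.filter_eq_self.2 fun Z hZ hZK => hYK ((hmin Z hZ).trans hZK)
    exact ⟨⟨⟨⟨hab, hch⟩, hfix⟩, fun h => hYK (h Y hY)⟩, by rw [hall, inf_eq_min hY hmin]; exact hB⟩

end Setting

end CfsgLib.SteinbergPolar
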