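import Cfsg.Agent.Lib.SteinbergPolar.Main
import Cfsg.Agent.Lib.Perm.PermChar
import Cfsg.Agent.Lib.Char.Virtual
import Cfsg.Agent.Lib.Char.Central
import Cfsg.Agent.Lib.Char.DefectZero
import Cfsg.Agent.Lib.Char.TripleAbove

/-!
The Steinberg character of a group of isometries of a polar space.
-/

set_option autoImplicit false
set_option linter.unusedSectionVars false

open Cfsg
open scoped ComplexConjugate

namespace CfsgLib.SteinbergPolar

namespace Setting

variable {F V G : Type*} [Field F] [AddCommGroup V] [Module F V] [Group G] (S : Setting F V G)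
variable [Finite V]

noncomputable local instance : Fintype (Submodule F V) := Fintype.ofFinite _

theorem ncard_act (g : G) (Z : Submodule F V) :
    (S.act g Z : Set V).ncard = (Z : Set V).ncard := by
  rw [show (S.act g Z : Set V) = S.ρ g '' Z from Submodule.map_coe _ _,
    Set.ncard_image_of_injective _ (S.ρ g).injective]

open Classical in
theorem image_mem_chains {g : G} {c : Finset (Submodule F V)} (hc : c ∈ S.chains ⊥) :
    c.image (S.act g) ∈ S.chains ⊥ := by
  simp only [S.mem_chains, Finset.forall_mem_image] at hc ⊢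
  exact ⟨fun Z hZ => ⟨(hc.1 Z hZ).1.act S g, bot_lt_iff_ne_bot.2 fun h => (hc.1 Z hZ).2.ne'
      (S.act_injective g (h.trans (Submodule.map_bot _).symm))⟩,
    fun A hA Z hZ => (hc.2 A hA Z hZ).imp (S.act_mono g) (S.act_mono g)⟩

/-- The chains whose size has a given parity. -/
def ChainPar (e : ℕ) : Type _ := {c : Finset (Submodule F V) // c ∈ S.chains ⊥ ∧ c.card % 2 = e}

open Classical in
noncomputable instance chainAction (e : ℕ) : MulAction G (S.ChainPar e) where
  smul g c := ⟨c.1.image (S.act g), S.image_mem_chains c.2.1, by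
    rw [Finset.card_image_of_injective _ (S.act_injective g)]; exact c.2.2⟩
  one_smul c := Subtype.ext (by
    show c.1.image (S.act 1) = c.1
    rw [show S.act 1 = id from funext S.act_one, Finset.image_id])
  mul_smul g h c := Subtype.ext (by
    show c.1.image (S.act (g * h)) = (c.1.image (S.act h)).image (S.act g)
    rw [Finset.image_image]
    exact Finset.image_congr fun Z _ => S.act_mul g h Z)

open Classical in
theorem card_fixed (e : ℕ) (g : G) :
    Nat.card (MulAction.fixedBy (S.ChainPar e) g) =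
      ((S.fchains ⊥ g).filter fun c => c.card % 2 = e).card := by
  rw [← Nat.card_eq_finsetCard]
  refine Nat.card_congr
    { toFun := fun c => ⟨c.1.1, ?_⟩
      invFun := fun c => ⟨⟨c.1, ?_⟩, ?_⟩
      left_inv := fun _ => rfl
      right_inv := fun _ => rfl }
  · obtain ⟨⟨c, hc, he⟩, hfix⟩ := c
    have hfix' : c.image (S.act g) = c := congrArg Subtype.val hfix
    simp only [S.mem_chains] at hc
    simp only [Finset.mem_filter, S.mem_fchains]
    refine ⟨⟨hc, fun Z hZ => ?_⟩, he⟩
    have hm : S.act g Z ∈ c := by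
      nth_rewrite 1 [← hfix']
      exact Finset.mem_image_of_mem _ hZ
    refine SetLike.coe_injective ?_
    rcases hc.2 _ hm Z hZ with h | h
    · exact Set.eq_of_subset_of_ncard_le h (S.ncard_act g Z).ge (Set.toFinite _)
    · exact (Set.eq_of_subset_of_ncard_le h (S.ncard_act g Z).le (Set.toFinite _)).symm
  · have hc := c.2
    simp only [Finset.mem_filter, S.mem_fchains] at hc
    exact ⟨S.mem_chains.2 hc.1.1, hc.2⟩
  · have hc := c.2
    simp only [Finset.mem_filter, S.mem_fchains] at hc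
    refine Subtype.ext ?_
    show c.1.image (S.act g) = c.1
    conv_rhs => rw [← Finset.image_id (s := c.1)]
    exact Finset.image_congr fun Z hZ => hc.1.2 Z hZ

open Classical in
theorem isGeneralized_chi :
    IsGeneralizedCharacter G (fun g => (S.chi ⊥ g : ℂ)) := by
  have hfin : ∀ e, Finite (S.ChainPar e) := fun e => Subtype.finite
  let _ : Fintype (S.ChainPar 0) := Fintype.ofFinite _
  let _ : Fintype (S.ChainPar 1) := Fintype.ofFinite _
  refine ⟨_, _, CfsgLib.Char.isCharacter_character (Cfsg.permRep ℂ G (S.ChainPar 0)),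
    CfsgLib.Char.isCharacter_character (Cfsg.permRep ℂ G (S.ChainPar 1)), ?_⟩
  rw [Cfsg.Agent.Lib.Perm.permRep_character, Cfsg.Agent.Lib.Perm.permRep_character]
  funext g
  simp only [Pi.sub_apply, S.card_fixed]
  rw [chi, ← Finset.sum_filter_add_sum_filter_not (S.fchains ⊥ g) (fun c => c.card % 2 = 0),
    Finset.sum_congr rfl (g := fun _ => (1 : ℤ)) fun c hc => ?_,
    Finset.sum_congr rfl (s₂ := (S.fchains ⊥ g).filter fun c => ¬ c.card % 2 = 0)
      (g := fun _ => (-1 : ℤ)) fun c hc => ?_]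
  · simp only [Finset.sum_const, nsmul_eq_mul, mul_one, mul_neg]
    push_cast
    rw [sub_eq_add_neg]
    congr 4
    exact Finset.filter_congr fun c _ => by omega
  · exact Odd.neg_one_pow (Nat.odd_iff.2 (Nat.mod_two_ne_zero.1 (Finset.mem_filter.1 hc).2))
  · exact Even.neg_one_pow (Nat.even_iff.2 (Finset.mem_filter.1 hc).2)

theorem big_top : S.Big ⊤ ⊥ :=
  ⟨fun g _ => Submodule.map_bot _, fun _ _ _ _ _ _ _ _ => Subgroup.mem_top _⟩

variable [Finite G]

open Classical in
theorem classInner_chi [Fintype G] :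
    classInner (fun g => (S.chi ⊥ g : ℂ)) (fun g => (S.chi ⊥ g : ℂ)) = 1 := by
  have h := S.norm S.big_top
  rw [Subgroup.card_top] at h
  simp only [hsum, Subgroup.mem_top, if_true] at h
  simp only [classInner, map_intCast]
  rw [← show ((∑ g : G, S.chi ⊥ g * S.chi ⊥ g : ℤ) : ℂ) = ∑ g : G, (S.chi ⊥ g : ℂ) * (S.chi ⊥ g : ℂ)
    by push_cast; rfl]
  rw [show (∑ g : G, S.chi ⊥ g * S.chi ⊥ g) = (Nat.card G : ℤ) by convert h]
  rw [Int.cast_natCast, inv_mul_cancel₀ (Nat.cast_ne_zero.2 Nat.card_pos.ne')]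

/-- The Steinberg character on a central quotient. -/
theorem exists_steinberg {P : Type*} [Group P] [Finite P] (p : ℕ) [Fact p.Prime] [CharP F p]
    (f : G →* P) (hf : Function.Surjective f)
    (hker : ∀ z, f z = 1 → ∀ W, S.TS W → z ∈ S.stab W)
    (hgood : ∀ u : G, u ≠ 1 → ∀ k : ℕ, u ^ p ^ k = 1 → ∃ r, r ≠ 0 ∧ S.sg r ∧ S.ρ u r = r ∧
      ∀ v, S.ρ u v = v → S.f v r = 0) :
    ∃ χ : P → ℂ, IsIrrCharacter P χ ∧ ∀ Q : Sylow p P, χ 1 = Nat.card Q ∧
      ∀ x : P, x ∈ Q → x ≠ 1 → χ x = 0 := by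
  classical
  have hp : p.Prime := Fact.out
  let _ : Fintype G := Fintype.ofFinite G
  obtain ⟨ε, hε, ψ, hψ⟩ := CfsgLib.Char.exists_of_norm_one S.isGeneralized_chi S.classInner_chi
  have hε0 : ε ≠ 0 := by rcases hε with rfl | rfl <;> norm_num
  have hval : ∀ g, (S.chi ⊥ g : ℂ) = ε * (ψ : G → ℂ) g := fun g => by
    rw [show (S.chi ⊥ g : ℂ) = (ε • (ψ : G → ℂ)) g from congrFun hψ g, Pi.smul_apply, smul_eq_mul]
  -- the degree
  obtain ⟨d, hd, hd0, hdvd⟩ := CfsgLib.Char.exists_degree_dvd_card ψ.2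
  have hne1 : (S.chi ⊥ 1 : ℂ) ≠ 0 := by
    rw [hval, hd]
    exact mul_ne_zero hε0 (Nat.cast_ne_zero.2 hd0.ne')
  obtain ⟨a, ha⟩ : ∃ a, d = p ^ a := by
    rcases S.degree p S.TS_bot with h | ⟨a, ha⟩
    · exact absurd (by rw [Int.natAbs_eq_zero.1 h, Int.cast_zero]) hne1
    refine ⟨a, ?_⟩
    have h := hval 1
    rw [hd] at h
    rcases hε with rfl | rfl
    · rw [one_mul] at h
      have h' : S.chi ⊥ 1 = (d : ℤ) := by exact_mod_cast h
      rw [h', Int.natAbs_natCast] at ha
      exact ha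
    · rw [neg_one_mul] at h
      have h' : S.chi ⊥ 1 = -(d : ℤ) := by exact_mod_cast h
      rw [h', Int.natAbs_neg, Int.natAbs_natCast] at ha
      exact ha
  have hvan : ∀ u : G, u ≠ 1 → ∀ k : ℕ, u ^ p ^ k = 1 → (ψ : G → ℂ) u = 0 := fun u hu k hk => by
    obtain ⟨r, hr, hsg, hfix, hperp⟩ := hgood u hu k hk
    have h := hval u
    rw [S.vanish p hk hr hsg hfix hperp, Int.cast_zero] at h
    exact (mul_eq_zero.1 h.symm).resolve_left hε0
  -- the kernel
  have hkerψ : ∀ z, f z = 1 → (ψ : G → ℂ) z = (ψ : G → ℂ) 1 := fun z hz => by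
    refine mul_left_cancel₀ hε0 ?_
    rw [← hval, ← hval, S.chi_congr fun W hW => iff_of_true (hker z hz W hW.1) (one_mem _)]
  have hkerp : ¬ p ∣ Nat.card f.ker := fun h => by
    obtain ⟨⟨z, hz⟩, hord⟩ := exists_prime_orderOf_dvd_card' p h
    rw [Subgroup.orderOf_mk] at hord
    have hz1 : z ≠ 1 := fun e => by rw [e, orderOf_one] at hord; exact hp.one_lt.ne hord
    have := hvan z hz1 1 (by rw [pow_one, ← hord, pow_orderOf_eq_one])
    rw [hkerψ z hz, hd] at this
    exact hd0.ne' (Nat.cast_eq_zero.1 this)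
  -- the degree is the `p`-part
  obtain ⟨P₀⟩ : Nonempty (Sylow p G) := inferInstance
  have hdiv : Nat.card P₀ ∣ d := by
    let _ : Fintype (P₀ : Subgroup G) := Fintype.ofFinite _
    obtain ⟨n, hn⟩ := CfsgLib.Char.exists_nat_classInner
      (CfsgLib.Char.isCharacter_comp (P₀ : Subgroup G).subtype
        (CfsgLib.Char.isCharacter_of_isIrr ψ.2))
      (CfsgLib.Char.isCharacter_one (G := (P₀ : Subgroup G)))
    simp only [classInner, map_one, mul_one] at hn
    rw [Finset.sum_eq_single (1 : (P₀ : Subgroup G)) (fun x _ hx => ?_) (by simp)] at hn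
    · simp only [map_one, hd] at hn
      refine ⟨n, ?_⟩
      have h0 : (Nat.card P₀ : ℂ) ≠ 0 := Nat.cast_ne_zero.2 Nat.card_pos.ne'
      have hc : (d : ℂ) = (Nat.card P₀ : ℂ) * n := by
        rw [← hn, ← mul_assoc]
        exact (by rw [mul_inv_cancel₀ h0, one_mul])
      exact_mod_cast hc
    · obtain ⟨k, hk⟩ := IsPGroup.iff_orderOf.mp P₀.2 x
      rw [← Subgroup.orderOf_coe] at hk
      exact hvan x (fun e => hx (Subtype.ext e)) k (by rw [← hk]; exact pow_orderOf_eq_one _)
  have hdeg : d = p ^ (Nat.card G).factorization p := by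
    rw [ha] at hdvd hdiv ⊢
    rw [P₀.card_eq_multiplicity] at hdiv
    exact congrArg _ (le_antisymm ((hp.pow_dvd_iff_le_factorization Nat.card_pos.ne').1 hdvd)
      ((Nat.pow_dvd_pow_iff_le_right hp.one_lt).1 hdiv))
  -- descend
  obtain ⟨χ, hχ, hχf⟩ := CfsgLib.Char.TripleAbove.descend f hf ψ.2 hkerψ
  refine ⟨χ, hχ, fun Q => ⟨?_, fun x hx hx1 => ?_⟩⟩
  · have hv : (Nat.card P).factorization p = (Nat.card G).factorization p := by
      have h := f.ker.card_mul_index
      rw [Subgroup.index_ker, MonoidHom.range_eq_top.2 hf, Subgroup.card_top] at h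
      rw [← h, Nat.factorization_mul Nat.card_pos.ne' Nat.card_pos.ne', Finsupp.add_apply,
        Nat.factorization_eq_zero_of_not_dvd hkerp, zero_add]
    rw [Q.card_eq_multiplicity, hv, ← hdeg, ← hd, ← hχf 1, map_one]
  · obtain ⟨g, rfl⟩ := hf x
    rw [hχf]
    refine CfsgLib.Char.defect_zero_vanish ψ.2 (d := d) hd (Nat.ordProj_dvd _ p)
      (Nat.pow_succ_factorization_not_dvd Nat.card_pos.ne' hp) hdeg.symm.dvd ?_
    obtain ⟨k, hk⟩ := IsPGroup.iff_orderOf.mp Q.2 ⟨f g, hx⟩
    rw [Subgroup.orderOf_mk] at hk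
    refine dvd_trans ?_ (orderOf_map_dvd f g)
    rw [hk]
    exact dvd_pow_self p fun h0 => hx1 (orderOf_eq_one_iff.mp (by rw [hk, h0, pow_zero]))

end Setting

end CfsgLib.SteinbergPolar
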