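import Cfsg.Agent.Lib.SteinbergPolar.Sums

/-!
The norm, the degree and the vanishing of the alternating count of fixed chains of totally
singular subspaces of a polar space.
-/

set_option autoImplicit false
set_option linter.unusedSectionVars false

namespace CfsgLib.SteinbergPolar

variable {F V G : Type*} [Field F] [AddCommGroup V] [Module F V] [Group G]

namespace Setting

variable (S : Setting F V G) [Finite V]

noncomputable local instance : Fintype (Submodule F V) := Fintype.ofFinite _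

open Classical in
/-- The totally singular subspaces above `B` meeting `K` in `B`. -/
noncomputable def opp (B K : Submodule F V) : Finset (Submodule F V) :=
  Finset.univ.filter fun Y => S.Above B Y ∧ Y ⊓ K = B

theorem mem_opp {B K Y : Submodule F V} : Y ∈ S.opp B K ↔ S.Above B Y ∧ Y ⊓ K = B := by
  simp [opp]

open Classical in
/-- The hyperplanes of `Y'` properly above `B`. -/
noncomputable def hyp (B Y' : Submodule F V) : Finset (Submodule F V) :=
  Finset.univ.filter fun Y => B < Y ∧ Cover Y Y'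

theorem mem_hyp {B Y' Y : Submodule F V} : Y ∈ hyp B Y' ↔ B < Y ∧ Cover Y Y' := by
  simp [hyp]

theorem hyp_nonempty {B Y' : Submodule F V} (h : B < Y') (hn : ¬ Cover B Y') :
    (hyp B Y').Nonempty := by
  classical
  obtain ⟨Y, hY, hmax⟩ := (Finset.univ.filter fun Y : Submodule F V => B ≤ Y ∧ Y < Y').exists_maximal
    ⟨B, Finset.mem_filter.2 ⟨Finset.mem_univ _, le_rfl, h⟩⟩
  simp only [Finset.mem_filter, Finset.mem_univ, true_and] at hY hmax
  have hc : Cover Y Y' := Cover.of_forall hY.2 fun Z h1 h2 => by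
    by_contra hne
    exact not_le_of_gt h1 (hmax ⟨hY.1.trans h1.le, lt_of_le_of_ne h2 hne⟩ h1.le)
  exact ⟨Y, mem_hyp.2 ⟨lt_of_le_of_ne hY.1 fun e => hn (e ▸ hc), hc⟩⟩

theorem hyp_act {B Y' Y : Submodule F V} {g : G} (hB : g ∈ S.stab B) (hY' : g ∈ S.stab Y')
    (h : Y ∈ hyp B Y') : S.act g Y ∈ hyp B Y' := by
  obtain ⟨hlt, hc⟩ := mem_hyp.1 h
  refine mem_hyp.2 ⟨lt_of_le_of_ne ?_ ?_, ?_⟩
  · rw [← hB]; exact S.act_mono g hlt.le
  · rw [← hB]; exact fun e => hlt.ne (S.act_injective g e)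
  · rw [← hY']; exact hc.act S g

theorem opp_act {B K Y : Submodule F V} {g : G} (hB : g ∈ S.stab B) (hK : g ∈ S.stab K)
    (h : Y ∈ S.opp B K) : S.act g Y ∈ S.opp B K := by
  obtain ⟨⟨hTS, hlt⟩, hinf⟩ := S.mem_opp.1 h
  refine S.mem_opp.2 ⟨⟨hTS.act S g, lt_of_le_of_ne ?_ ?_⟩, ?_⟩
  · rw [← hB]; exact S.act_mono g hlt.le
  · rw [← hB]; exact fun e => hlt.ne (S.act_injective g e)
  · rw [← hK, ← S.act_inf, hinf, hB]

/-- Two hyperplanes split by their intersection. -/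
theorem hyp_pair {Y₀ Y₁ Y' : Submodule F V} (h0 : Cover Y₀ Y') (h1 : Cover Y₁ Y')
    (hne : Y₀ ≠ Y₁) : ∃ o o', o ∈ Y₀ ∧ o ∉ Y₁ ∧ o' ∈ Y₁ ∧ o' ∉ Y₀ ∧
      Y₀ = Y₀ ⊓ Y₁ ⊔ Submodule.span F {o} ∧ Y₁ = Y₀ ⊓ Y₁ ⊔ Submodule.span F {o'} := by
  have hn : ∀ {A C : Submodule F V}, Cover A Y' → Cover C Y' → A ≠ C → ∃ o ∈ A, o ∉ C := by
    intro A C hA hC hAC
    by_contra hall
    push Not at hall
    exact hC.lt.ne (hA.eq_of_lt (lt_of_le_of_ne hall hAC) hC.lt.le)
  have key : ∀ {A C : Submodule F V} {o : V}, Cover A Y' → Cover C Y' → o ∈ A → o ∉ C →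
      A = A ⊓ C ⊔ Submodule.span F {o} := by
    intro A C o hA hC ho hoC
    refine le_antisymm (fun v hv => ?_)
      (sup_le inf_le_left ((Submodule.span_singleton_le_iff_mem o _).2 ho))
    have hv' := hA.lt.le hv
    rw [hC.eq_sup (hA.lt.le ho) hoC] at hv'
    obtain ⟨y, hy, z, hz, rfl⟩ := Submodule.mem_sup.1 hv'
    refine Submodule.add_mem_sup ⟨?_, hy⟩ hz
    have hzA : z ∈ A := (Submodule.span_singleton_le_iff_mem o _).2 ho hz
    have := sub_mem hv hzA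
    rwa [add_sub_cancel_right] at this
  obtain ⟨o, ho, ho1⟩ := hn h0 h1 hne
  obtain ⟨o', ho', ho0⟩ := hn h1 h0 hne.symm
  refine ⟨o, o', ho, ho1, ho', ho0, key h0 h1 ho ho1, ?_⟩
  rw [inf_comm]
  exact key h1 h0 ho' ho0

variable [Finite G]

noncomputable local instance : Fintype G := Fintype.ofFinite _

open Classical in
theorem contract' {B W K : Submodule F V} {g : G} (hW : S.TS W) (hBW : B < W) (hWK : W ≤ K)
    (hK : K ≤ S.perp W) (hgW : g ∈ S.stab W) (hgK : g ∈ S.stab K) :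
    S.chi B g = -∑ Y ∈ (S.opp B K).filter (fun Y => g ∈ S.stab Y), S.chi Y g := by
  rw [S.contract hW hBW hWK hK hgW hgK, opp, Finset.filter_filter]
  congr 1
  exact Finset.sum_congr (Finset.filter_congr fun Y _ => and_assoc.symm) fun _ _ => rfl

open Classical in
theorem hsum_expand {H : Subgroup G} {B : Submodule F V} {s : Finset (Submodule F V)} (φ : G → ℤ)
    (h : ∀ g ∈ H, S.chi B g = -∑ Y ∈ s.filter (fun Y => g ∈ S.stab Y), S.chi Y g) :
    hsum H (fun g => φ g * S.chi B g) =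
      -∑ Y ∈ s, hsum (H ⊓ S.stab Y) (fun g => φ g * S.chi Y g) := by
  rw [← S.hsum_swap H s (fun Y g => φ g * S.chi Y g), ← hsum_neg]
  refine hsum_congr fun g hg => ?_
  rw [h g hg, mul_neg, Finset.mul_sum]

open Classical in
/-- Orthogonality with the counts of the non-minimal subspaces. -/
theorem zero : ∀ {B W X : Submodule F V} {H : Subgroup G} {φ : G → ℤ}, S.TS W → B < W →
    ¬ Cover B W → W = B ⊔ X → H ≤ S.stab B → H ≤ S.stab W →
    (∀ x o o' g, S.IsSpec x o o' g → x ∈ X → o ∈ S.perp B → o' ∈ S.perp B → g ∈ H) →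
    (∀ g ∈ H, ∀ n ∈ H, n ∈ S.fixAbove W → φ (g * n) = φ g) →
    hsum H (fun g => φ g * S.chi B g) = 0 := by
  intro B
  induction B using WellFoundedGT.induction with
  | ind B IH =>
  intro W X H φ hW hBW hnc hX hHB hHW hspec hφ
  have hXW : X ≤ W := by rw [hX]; exact le_sup_right
  rw [S.hsum_expand φ fun g hg =>
    S.contract' hW hBW hW.2 le_rfl (hHW hg) (S.stab_perp (hHW hg))]
  -- the partition of the opposite subspaces
  have hdata : ∀ Y ∈ S.opp B (S.perp W), S.TS Y ∧ B < Y ∧ Y ⊓ S.perp W = B ∧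
      S.TS (W ⊓ S.perp Y ⊔ Y) ∧ B ≤ W ⊓ S.perp Y := fun Y hY => by
    obtain ⟨⟨h1, h2⟩, h3⟩ := S.mem_opp.1 hY
    exact ⟨h1, h2, h3, S.TS_pull h1 hW, le_inf hBW.le (h2.le.trans h1.2)⟩
  have hnotcover : ∀ Y ∈ S.opp B (S.perp W), W ⊓ S.perp Y = B →
      ¬ Cover Y (W ⊓ S.perp Y ⊔ Y) := fun Y hY h hc => by
    have := hc.lt
    rw [h, sup_eq_right.2 (hdata Y hY).2.1.le] at this
    exact lt_irrefl _ this
  have hthird : ∀ Y ∈ S.opp B (S.perp W), W ⊓ S.perp Y ≠ B → ¬ Cover Y (W ⊓ S.perp Y ⊔ Y) →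
      hsum (H ⊓ S.stab Y) (fun g => φ g * S.chi Y g) = 0 := fun Y hY hne hnot => by
    obtain ⟨hYTS, hBY, hinf, hW0, hle⟩ := hdata Y hY
    refine IH Y hBY hW0 (lt_of_le_not_ge le_sup_right fun h => hne (le_antisymm ?_ hle))
      hnot (X := X ⊓ S.perp Y) ?_ inf_le_right ?_ ?_ ?_
    · conv_rhs => rw [← hinf]
      exact le_inf (le_sup_left.trans h) (inf_le_left.trans hW.2)
    · conv_lhs => rw [hX, sup_inf_assoc_of_le X (hBY.le.trans hYTS.2)]
      rw [sup_comm B, sup_assoc, sup_eq_right.2 hBY.le, sup_comm]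
    · exact fun g hg => S.stab_sup (S.stab_inf (hHW hg.1) (S.stab_perp hg.2)) hg.2
    · exact fun x o o' g hg hx ho ho' => ⟨hspec x o o' g hg hx.1 (S.perp_anti hBY.le ho)
        (S.perp_anti hBY.le ho'), hg.fix_of_perp S hx.2 ho ho'⟩
    · exact fun g hg n hn hnf => hφ g hg.1 n hn.1
        (S.fixAbove_pull hYTS hBW.le hBY.le hinf (hHW hn.1) hnf)
  rw [← Finset.sum_filter_add_sum_filter_not (S.opp B (S.perp W))
    (fun Y => Cover Y (W ⊓ S.perp Y ⊔ Y))]
  rw [← Finset.sum_subset (s₁ := (S.opp B (S.perp W)).filter fun Y => W ⊓ S.perp Y = B)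
    (s₂ := (S.opp B (S.perp W)).filter fun Y => ¬ Cover Y (W ⊓ S.perp Y ⊔ Y))
    (fun Y hY => by
      obtain ⟨h1, h2⟩ := Finset.mem_filter.1 hY
      exact Finset.mem_filter.2 ⟨h1, hnotcover Y h1 h2⟩)
    (fun Y hY hY' => by
      obtain ⟨h1, h2⟩ := Finset.mem_filter.1 hY
      exact hthird Y h1 (fun h => hY' (Finset.mem_filter.2 ⟨h1, h⟩)) h2)]
  -- expand the second kind
  have hsecond : ∀ Y ∈ (S.opp B (S.perp W)).filter (fun Y => Cover Y (W ⊓ S.perp Y ⊔ Y)),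
      hsum (H ⊓ S.stab Y) (fun g => φ g * S.chi Y g) =
        -∑ Y' ∈ S.opp Y (S.perp (W ⊓ S.perp Y ⊔ Y)),
          hsum (H ⊓ S.stab Y' ⊓ S.stab Y) (fun g => φ g * S.chi Y' g) := fun Y hY => by
    obtain ⟨hY, hc⟩ := Finset.mem_filter.1 hY
    obtain ⟨hYTS, hBY, hinf, hW0, hle⟩ := hdata Y hY
    rw [S.hsum_expand φ fun g hg => by
      have hgW0 : g ∈ S.stab (W ⊓ S.perp Y ⊔ Y) :=
        S.stab_sup (S.stab_inf (hHW hg.1) (S.stab_perp hg.2)) hg.2
      exact S.contract' hW0 hc.lt hW0.2 le_rfl hgW0 (S.stab_perp hgW0)]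
    congr 1
    refine Finset.sum_congr rfl fun Y' _ => ?_
    rw [inf_right_comm]
  rw [Finset.sum_congr rfl hsecond, Finset.sum_neg_distrib]
  rw [Finset.sum_comm' (t' := (S.opp B (S.perp W)).filter fun Y => W ⊓ S.perp Y = B)
    (s' := fun Y' => hyp B Y') (fun Y Y' => ?_)]
  · rw [neg_eq_zero, neg_add_eq_zero]
    refine Finset.sum_congr rfl fun Y' hY' => ?_
    obtain ⟨hY', hop⟩ := Finset.mem_filter.1 hY'
    obtain ⟨hY'TS, hBY', hinf, -, -⟩ := hdata Y' hY'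
    refine S.average (N := H ⊓ S.stab Y' ⊓ S.fixAbove W) inf_le_left
      (hyp_nonempty hBY' fun hc => hnc (S.cover_of_opp hc hW hBW hop))
      (fun h hh Y hY => S.hyp_act (hHB hh.1) hh.2 hY) ?_ (fun g => φ g * S.chi Y' g) ?_
    · intro Y₀ hY₀ Y₁ hY₁
      obtain ⟨hB0, hc0⟩ := mem_hyp.1 hY₀
      obtain ⟨hB1, hc1⟩ := mem_hyp.1 hY₁
      by_cases hne : Y₀ = Y₁
      · exact ⟨1, one_mem _, hne ▸ S.act_one _⟩
      obtain ⟨o, o', ho, hoA, ho', hoA', e0, e1⟩ := hyp_pair hc0 hc1 hne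
      set A := Y₀ ⊓ Y₁ with hA
      have hBA : B ≤ A := le_inf hB0.le hB1.le
      have hA0 : A ≤ Y' := inf_le_left.trans hc0.lt.le
      have hex : ∀ {u : V} {C : Submodule F V}, C ≤ Y' → C = A ⊔ Submodule.span F {u} → u ∉ A →
          ∃ w ∈ X ⊓ S.perp A, S.f w u ≠ 0 := by
        intro u C hC eC hu
        by_contra hall
        push Not at hall
        have huC : u ∈ C := by
          rw [eC]
          exact Submodule.mem_sup_right (Submodule.mem_span_singleton_self u)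
        have huY : u ∈ Y' := hC huC
        have hle : W ⊓ S.perp A ≤ S.perp C := by
          rw [hX, sup_inf_assoc_of_le X ((hBA.trans hA0).trans (hY'TS.2.trans (S.perp_anti hA0))),
            eC, S.perp_sup]
          refine le_inf (sup_le ((hBA.trans hA0).trans (hY'TS.2.trans (S.perp_anti hA0)))
            inf_le_right) (sup_le ((hBA.trans hA0).trans (hY'TS.2.trans
              (S.perp_anti ((Submodule.span_singleton_le_iff_mem u _).2 huY)))) ?_)
          refine S.perp_symm ((Submodule.span_singleton_le_iff_mem u _).2 ?_)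
          exact fun w hw => S.f_symm0 _ _ (hall w hw)
        have h := S.perp_anti hle
        rw [S.perp_perp, S.perp_inf, S.perp_perp] at h
        have h' : u ∈ (A ⊔ S.perp W) ⊓ Y' := ⟨by rw [sup_comm]; exact h huC, huY⟩
        rw [sup_inf_assoc_of_le _ hA0, inf_comm (S.perp W), hinf, sup_eq_left.2 hBA] at h'
        exact hu h'
      obtain ⟨w, hw, hwo, hwo'⟩ := S.exists_pair_vec
        (hex hc0.lt.le e0 fun h => hoA h.2) (hex hc1.lt.le e1 fun h => hoA' h.1)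
      have hwW : w ∈ W := hXW hw.1
      obtain ⟨o₁, ho₁, ho₁w, es⟩ := S.exists_scaled (x := w) (hY'TS.1 o (hc0.lt.le ho))
        fun h => hwo (S.f_symm0 _ _ h)
      obtain ⟨o₂, ho₂, ho₂w, es'⟩ := S.exists_scaled (x := w) (hY'TS.1 o' (hc1.lt.le ho'))
        fun h => hwo' (S.f_symm0 _ _ h)
      have ho₁Y : o₁ ∈ Y' := by
        refine hc0.lt.le ?_
        rw [e0, ← es]; exact Submodule.mem_sup_right (Submodule.mem_span_singleton_self o₁)
      have ho₂Y : o₂ ∈ Y' := by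
        refine hc1.lt.le ?_
        rw [e1, ← es']; exact Submodule.mem_sup_right (Submodule.mem_span_singleton_self o₂)
      obtain ⟨g, hg⟩ := S.exists_spec (hW.1 w hwW) ho₁ ho₂ ho₁w ho₂w
      have hperpB : ∀ v ∈ Y', v ∈ S.perp B := fun v hv => S.perp_anti hBY'.le (hY'TS.2 hv)
      have hperpA : ∀ v ∈ Y', v ∈ S.perp A := fun v hv => S.perp_anti hA0 (hY'TS.2 hv)
      refine ⟨g, ⟨⟨hspec w o₁ o₂ g hg hw.1 (hperpB _ ho₁Y) (hperpB _ ho₂Y),
        hg.fix_pair S hY'TS ho₁Y ho₂Y⟩,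
        fun Z hZ hWZ => hg.fix_of_mem S hZ (hWZ hwW)⟩, ?_⟩
      conv_lhs => rw [e0, ← es, hg.act_sup_span S
        (hg.fix_of_perp S hw.2 (hperpA _ ho₁Y) (hperpA _ ho₂Y)), es', ← e1]
    · intro g hg n hn
      rw [hφ g hg.1 n hn.1.1 hn.2, S.chi_mul_right]
      refine S.fixAbove_pull hW hBY'.le hBW.le hop hn.1.2 ?_
      rw [hinf, sup_eq_right.2 hBW.le]
      exact hn.2
  -- the pairs
  · simp only [Finset.mem_filter, S.mem_opp, mem_hyp]
    constructor
    · rintro ⟨⟨⟨⟨hYTS, hBY⟩, hinf⟩, hc⟩, ⟨hY'TS, hYY'⟩, hinf'⟩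
      have hW0 : S.TS (W ⊓ S.perp Y ⊔ Y) := S.TS_pull hYTS hW
      have hY'perp : Y' ≤ S.perp Y := hY'TS.2.trans (S.perp_anti hYY'.le)
      refine ⟨⟨hBY, S.cover_of_opp hc hY'TS hYY' hinf'⟩, ⟨⟨hY'TS, hBY.trans hYY'⟩, ?_⟩, ?_⟩
      · refine le_antisymm (fun v hv => ?_) (le_inf (hBY.trans hYY').le
          (hBW.le.trans hW.2))
        have hvW0 : v ∈ S.perp (W ⊓ S.perp Y ⊔ Y) := by
          rw [S.perp_sup]
          exact ⟨S.perp_anti inf_le_left hv.2, hY'perp hv.1⟩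
        have hvY : v ∈ Y := hinf' ▸ (⟨hv.1, hvW0⟩ : v ∈ Y' ⊓ _)
        exact hinf ▸ (⟨hvY, hv.2⟩ : v ∈ Y ⊓ _)
      · refine le_antisymm (fun v hv => ?_) (le_inf hBW.le ((hBY.trans hYY').le.trans hY'TS.2))
        have hvW0 : v ∈ W ⊓ S.perp Y ⊔ Y :=
          Submodule.mem_sup_left ⟨hv.1, S.perp_anti hYY'.le hv.2⟩
        have hvY : v ∈ Y := by
          rw [← S.opp_symm hc hW0 hY'TS hYY' hinf']
          exact ⟨hvW0, hv.2⟩
        exact hinf ▸ (⟨hvY, hW.2 hv.1⟩ : v ∈ Y ⊓ _)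
    · rintro ⟨⟨hBY, hc⟩, ⟨⟨hY'TS, hBY'⟩, hinf⟩, hop⟩
      have hYTS : S.TS Y := hY'TS.mono S hc.lt.le
      have hinfY : Y ⊓ S.perp W = B := le_antisymm
        ((inf_le_inf_right _ hc.lt.le).trans hinf.le) (le_inf hBY.le (hBW.le.trans hW.2))
      have hle : B ≤ W ⊓ S.perp Y := le_inf hBW.le (hBY.le.trans hYTS.2)
      have hlt : B < W ⊓ S.perp Y := lt_of_le_of_ne hle fun e => hc.lt.ne (by
        have h1 := congrArg S.perp e
        have h2 := congrArg S.perp hop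
        rw [S.perp_inf, S.perp_perp] at h1 h2
        have h3 : (Y ⊔ S.perp W) ⊓ Y' = Y' := by
          rw [sup_comm, ← h1, ← h2]; exact inf_eq_right.2 le_sup_right
        rw [sup_inf_assoc_of_le _ hc.lt.le, inf_comm, hinf, sup_eq_left.2 hBY.le] at h3
        exact h3)
      obtain ⟨y', hy', hy'Y⟩ := SetLike.exists_of_lt hc.lt
      have hzero : ∀ w ∈ W ⊓ S.perp Y, ∀ v ∈ Y', v ∉ Y → S.f w v = 0 → w ∈ B := by
        intro w hw v hv hvY h0
        rw [← hop]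
        refine ⟨hw.1, ?_⟩
        rw [hc.eq_sup hv hvY]
        exact S.perp_mono_span hw.2 h0
      obtain ⟨z, hz, hzB⟩ := SetLike.exists_of_lt hlt
      have hzy : S.f z y' ≠ 0 := fun h => hzB (hzero z hz y' hy' hy'Y h)
      have hzY : z ∉ Y := fun h => hzB (hinfY ▸ (⟨h, hW.2 hz.1⟩ : z ∈ Y ⊓ _))
      refine ⟨⟨⟨⟨hYTS, hBY⟩, hinfY⟩, z, Submodule.mem_sup_left hz, hzY, ?_⟩,
        ⟨hY'TS, hc.lt⟩, ?_⟩
      · refine le_antisymm (sup_le (fun w hw => ?_) le_sup_left)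
          (sup_le le_sup_right ((Submodule.span_singleton_le_iff_mem z _).2
            (Submodule.mem_sup_left hz)))
        have hb := hzero (w - (S.f w y' * (S.f z y')⁻¹) • z)
          (sub_mem hw (Submodule.smul_mem _ _ hz)) y' hy' hy'Y
          (by rw [S.f_sub, S.f_smul, mul_assoc, inv_mul_cancel₀ hzy, mul_one, sub_self])
        have := Submodule.add_mem_sup (hBY.le hb)
          (Submodule.smul_mem _ (S.f w y' * (S.f z y')⁻¹) (Submodule.mem_span_singleton_self z))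
        rwa [sub_add_cancel] at this
      · refine le_antisymm (fun v hv => ?_) (le_inf hc.lt.le
          (le_sup_right.trans (S.TS_pull hYTS hW).2))
        by_contra hvY
        exact hzB (hzero z hz v hv.1 hvY
          (S.f_symm0 _ _ (hv.2 z (Submodule.mem_sup_left hz))))

/-- A subgroup of the stabilizer of `B` with enough transvection-like elements. -/
def Big (H : Subgroup G) (B : Submodule F V) : Prop :=
  H ≤ S.stab B ∧ ∀ x o o' g, S.IsSpec x o o' g → x ∈ S.perp B → o ∈ S.perp B → o' ∈ S.perp B → g ∈ H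

theorem Big.inf_stab {H : Subgroup G} {B W : Submodule F V} (h : S.Big H B) (hBW : B ≤ W) :
    S.Big (H ⊓ S.stab W) W :=
  ⟨inf_le_right, fun x o o' g hg hx ho ho' => ⟨h.2 x o o' g hg (S.perp_anti hBW hx)
    (S.perp_anti hBW ho) (S.perp_anti hBW ho'), hg.fix_of_perp S hx ho ho'⟩⟩

open Classical in
/-- The sum of the count over a large subgroup. -/
theorem sum_chi : ∀ {B : Submodule F V} {H : Subgroup G}, S.Big H B →
    hsum H (S.chi B) = (Nat.card H : ℤ) -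
      ∑ W ∈ Finset.univ.filter (fun W => S.Above B W ∧ Cover B W),
        (Nat.card ↥(H ⊓ S.stab W) : ℤ) := by
  intro B
  induction B using WellFoundedGT.induction with
  | ind B IH =>
  intro H hH
  have h1 : hsum H (S.chi B) = (Nat.card H : ℤ) -
      ∑ Y ∈ Finset.univ.filter (S.Above B), hsum (H ⊓ S.stab Y) (S.chi Y) := by
    rw [← hsum_one H, ← S.hsum_swap H _ (fun Y => S.chi Y), ← hsum_sub]
    refine hsum_congr fun g _ => ?_
    rw [S.chi_eq_one_sub B g, Finset.filter_filter]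
  rw [h1]
  congr 1
  rw [Finset.sum_congr rfl fun Y hY => IH Y (Finset.mem_filter.1 hY).2.2
    (hH.inf_stab S (Finset.mem_filter.1 hY).2.2.le), Finset.sum_sub_distrib]
  rw [sub_eq_iff_eq_add, Finset.sum_comm' (t' := Finset.univ.filter
    (fun Y => S.Above B Y ∧ ¬ Cover B Y)) (s' := fun Y' => hyp B Y') (fun Y Y' => ?_)]
  · rw [← Finset.sum_filter_add_sum_filter_not (Finset.univ.filter (S.Above B)) (Cover B),
      Finset.filter_filter, Finset.filter_filter]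
    congr 1
    refine Finset.sum_congr rfl fun Y' hY' => ?_
    obtain ⟨-, ⟨hY'TS, hBY'⟩, hnc⟩ := Finset.mem_filter.1 hY'
    have := S.average (H := H ⊓ S.stab Y') le_rfl (hyp_nonempty hBY' hnc)
      (fun h hh Y hY => S.hyp_act (hH.1 hh.1) hh.2 hY) ?_ (fun _ => 1) (fun _ _ _ _ => rfl)
    · simp only [hsum_one] at this
      rw [← this]
      exact Finset.sum_congr rfl fun Y _ => by rw [inf_right_comm]
    intro Y₀ hY₀ Y₁ hY₁
    obtain ⟨hB0, hc0⟩ := mem_hyp.1 hY₀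
    obtain ⟨hB1, hc1⟩ := mem_hyp.1 hY₁
    by_cases hne : Y₀ = Y₁
    · exact ⟨1, one_mem _, hne ▸ S.act_one _⟩
    obtain ⟨o, o', ho, hoA, ho', hoA', e0, e1⟩ := hyp_pair hc0 hc1 hne
    set A := Y₀ ⊓ Y₁ with hA
    have hBA : B ≤ A := le_inf hB0.le hB1.le
    have hA0 : A ≤ Y' := inf_le_left.trans hc0.lt.le
    have hex : ∀ {u : V}, u ∉ A → ∃ w ∈ S.perp A, S.f w u ≠ 0 := fun {u} hu => by
      by_contra hall
      push Not at hall
      exact hu (S.perp_perp A ▸ (fun w hw => S.f_symm0 _ _ (hall w hw) : u ∈ S.perp (S.perp A)))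
    obtain ⟨v, hv, hvo, hvo'⟩ := S.exists_pair_vec (hex fun h => hoA h.2) (hex fun h => hoA' h.1)
    have hoY : o ∈ Y' := hc0.lt.le ho
    have ho'Y : o' ∈ Y' := hc1.lt.le ho'
    obtain ⟨c, hx⟩ := S.adjust v o (hY'TS.1 o hoY) hvo
    have hxA : v + c • o ∈ S.perp A :=
      add_mem hv (Submodule.smul_mem _ _ (S.perp_anti hA0 (hY'TS.2 hoY)))
    have hxo : S.f o (v + c • o) ≠ 0 := fun h => hvo (by
      simpa [S.f_add, S.f_smul, hY'TS.2 hoY o hoY] using S.f_symm0 _ _ h)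
    have hxo' : S.f o' (v + c • o) ≠ 0 := fun h => hvo' (by
      simpa [S.f_add, S.f_smul, hY'TS.2 hoY o' ho'Y] using S.f_symm0 _ _ h)
    obtain ⟨o₁, ho₁, ho₁w, es⟩ := S.exists_scaled (hY'TS.1 o hoY) hxo
    obtain ⟨o₂, ho₂, ho₂w, es'⟩ := S.exists_scaled (hY'TS.1 o' ho'Y) hxo'
    have ho₁Y : o₁ ∈ Y' := by
      refine hc0.lt.le ?_
      rw [e0, ← es]; exact Submodule.mem_sup_right (Submodule.mem_span_singleton_self o₁)
    have ho₂Y : o₂ ∈ Y' := by
      refine hc1.lt.le ?_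
      rw [e1, ← es']; exact Submodule.mem_sup_right (Submodule.mem_span_singleton_self o₂)
    obtain ⟨g, hg⟩ := S.exists_spec hx ho₁ ho₂ ho₁w ho₂w
    have hperpB : ∀ u ∈ Y', u ∈ S.perp B := fun u hu => S.perp_anti hBY'.le (hY'TS.2 hu)
    have hperpA : ∀ u ∈ Y', u ∈ S.perp A := fun u hu => S.perp_anti hA0 (hY'TS.2 hu)
    refine ⟨g, ⟨hH.2 _ o₁ o₂ g hg (S.perp_anti hBA hxA) (hperpB _ ho₁Y) (hperpB _ ho₂Y),
      hg.fix_pair S hY'TS ho₁Y ho₂Y⟩, ?_⟩
    conv_lhs => rw [e0, ← es, hg.act_sup_span S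
      (hg.fix_of_perp S hxA (hperpA _ ho₁Y) (hperpA _ ho₂Y)), es', ← e1]
  · simp only [Finset.mem_filter, Finset.mem_univ, true_and, mem_hyp]
    constructor
    · rintro ⟨hBY, ⟨hY'TS, hYY'⟩, hc⟩
      exact ⟨⟨hBY.2, hc⟩, ⟨hY'TS, hBY.2.trans hYY'⟩,
        fun h => hYY'.ne (h.eq_of_lt hBY.2 hYY'.le)⟩
    · rintro ⟨⟨hBY, hc⟩, ⟨hY'TS, -⟩, -⟩
      exact ⟨⟨hY'TS.mono S hc.lt.le, hBY⟩, ⟨hY'TS, hc.lt⟩, hc⟩

theorem opp_perp_pair {B W : Submodule F V} {Y : Submodule F V} (hY : Y ∈ S.opp B (S.perp W))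
    (hW : Cover B W) : ∃ o, o ∈ Y ∧ o ∉ B ∧ Y = B ⊔ Submodule.span F {o} := by
  obtain ⟨⟨hYTS, hBY⟩, hinf⟩ := S.mem_opp.1 hY
  obtain ⟨o, ho, hoB⟩ := SetLike.exists_of_lt hBY
  exact ⟨o, ho, hoB, (S.cover_of_opp hW hYTS hBY hinf).eq_sup ho hoB⟩

theorem opp_nonempty {B W : Submodule F V} (hW : S.TS W) (hc : Cover B W) :
    (S.opp B (S.perp W)).Nonempty := by
  obtain ⟨x, hx, hxB, e⟩ := hc
  have hBW : B ≤ W := by rw [e]; exact le_sup_left
  have hex : ∃ v ∈ S.perp B, S.f v x ≠ 0 := by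
    by_contra hall
    push Not at hall
    exact hxB (S.perp_perp B ▸ (fun w hw => S.f_symm0 _ _ (hall w hw) : x ∈ S.perp (S.perp B)))
  obtain ⟨v, hv, hvx⟩ := hex
  obtain ⟨c, ho⟩ := S.adjust v x (hW.1 x hx) hvx
  have hoB : v + c • x ∈ S.perp B :=
    add_mem hv (Submodule.smul_mem _ _ (S.perp_anti hBW (hW.2 hx)))
  have hox : S.f (v + c • x) x ≠ 0 := by
    rw [S.f_add, S.f_smul, hW.2 hx x hx, mul_zero, add_zero]; exact hvx
  refine ⟨B ⊔ Submodule.span F {v + c • x}, S.mem_opp.2 ⟨⟨(hW.mono S hBW).sup_span S ho hoB,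
    lt_of_le_not_ge le_sup_left fun h => hox ?_⟩, le_antisymm (fun u hu => ?_)
    (le_inf le_sup_left (hBW.trans hW.2))⟩⟩
  · exact hW.2 (hBW (h (Submodule.mem_sup_right (Submodule.mem_span_singleton_self _)))) x hx
  · obtain ⟨b, hb, z, hz, rfl⟩ := Submodule.mem_sup.1 hu.1
    obtain ⟨d, rfl⟩ := Submodule.mem_span_singleton.1 hz
    have h0 := hu.2 x hx
    rw [S.f_add, hW.2 (hBW hb) x hx, zero_add, S.f_smul] at h0
    rw [(mul_eq_zero.1 h0).resolve_right hox, zero_smul, add_zero]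
    exact hb

open Classical in
/-- The norm of the count over a large subgroup. -/
theorem norm : ∀ {B : Submodule F V} {H : Subgroup G}, S.Big H B →
    hsum H (fun g => S.chi B g * S.chi B g) = (Nat.card H : ℤ) := by
  intro B
  induction B using WellFoundedGT.induction with
  | ind B IH =>
  intro H hH
  have hnot : ∀ W ∈ Finset.univ.filter (S.Above B), ¬ Cover B W →
      hsum (H ⊓ S.stab W) (fun g => S.chi W g * S.chi B g) = 0 := fun W hW hnc => by
    obtain ⟨hWTS, hBW⟩ := (Finset.mem_filter.1 hW).2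
    exact S.zero hWTS hBW hnc (sup_eq_right.2 hBW.le).symm (inf_le_left.trans hH.1) inf_le_right
      (fun x o o' g hg hx ho ho' => ⟨hH.2 x o o' g hg (S.perp_anti hBW.le (hWTS.2 hx)) ho ho',
        hg.fix_of_mem S hWTS hx⟩) (fun g _ n _ hn => S.chi_mul_right hn)
  have hcov : ∀ W ∈ Finset.univ.filter (fun W => S.Above B W ∧ Cover B W),
      hsum (H ⊓ S.stab W) (fun g => S.chi W g * S.chi B g) =
        -(Nat.card ↥(H ⊓ S.stab W) : ℤ) := fun W hW => by
    obtain ⟨-, ⟨hWTS, hBW⟩, hc⟩ := Finset.mem_filter.1 hW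
    rw [S.hsum_expand (H := H ⊓ S.stab W) _ fun g hg =>
      S.contract' hWTS hBW hWTS.2 le_rfl hg.2 (S.stab_perp hg.2)]
    congr 1
    rw [← IH W hBW (hH.inf_stab S hBW.le)]
    refine Eq.trans (Finset.sum_congr rfl fun Y hY => hsum_congr fun g hg => ?_)
      (S.average (N := H ⊓ S.stab W ⊓ S.fixAbove W) inf_le_left (S.opp_nonempty hWTS hc)
        (fun h hh Y hY => S.opp_act (hH.1 hh.1) (S.stab_perp hh.2) hY) ?_
        (fun g => S.chi W g * S.chi W g)
        (fun g _ n hn => by simp only [S.chi_mul_right hn.2]))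
    · obtain ⟨⟨hYTS, hBY⟩, hinf⟩ := S.mem_opp.1 hY
      rw [S.chi_transfer hWTS hYTS hBW.le hBY.le hinf (S.opp_symm hc hWTS hYTS hBY hinf) hg.1.2 hg.2]
    intro Y₀ hY₀ Y₁ hY₁
    obtain ⟨o, ho, hoB, e0⟩ := S.opp_perp_pair hY₀ hc
    obtain ⟨o', ho', hoB', e1⟩ := S.opp_perp_pair hY₁ hc
    obtain ⟨⟨h0TS, h0B⟩, h0inf⟩ := S.mem_opp.1 hY₀
    obtain ⟨⟨h1TS, h1B⟩, h1inf⟩ := S.mem_opp.1 hY₁
    have hex : ∀ {u : V} {Y : Submodule F V}, u ∈ Y → u ∉ B → Y ⊓ S.perp W = B →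
        ∃ w ∈ W, S.f w u ≠ 0 := fun {u Y} hu hub hYW => by
      by_contra hall
      push Not at hall
      exact hub (hYW ▸ (⟨hu, fun w hw => S.f_symm0 _ _ (hall w hw)⟩ : u ∈ Y ⊓ S.perp W))
    obtain ⟨w, hw, hwo, hwo'⟩ :=
      S.exists_pair_vec (hex ho hoB h0inf) (hex ho' hoB' h1inf)
    obtain ⟨o₁, ho₁, ho₁w, es⟩ := S.exists_scaled (x := w) (h0TS.1 o ho)
      fun h => hwo (S.f_symm0 _ _ h)
    obtain ⟨o₂, ho₂, ho₂w, es'⟩ := S.exists_scaled (x := w) (h1TS.1 o' ho')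
      fun h => hwo' (S.f_symm0 _ _ h)
    have ho₁Y : o₁ ∈ Y₀ := by
      rw [e0, ← es]; exact Submodule.mem_sup_right (Submodule.mem_span_singleton_self o₁)
    have ho₂Y : o₂ ∈ Y₁ := by
      rw [e1, ← es']; exact Submodule.mem_sup_right (Submodule.mem_span_singleton_self o₂)
    obtain ⟨g, hg⟩ := S.exists_spec (hWTS.1 w hw) ho₁ ho₂ ho₁w ho₂w
    have hp : w ∈ S.perp B ∧ o₁ ∈ S.perp B ∧ o₂ ∈ S.perp B :=
      ⟨S.perp_anti hBW.le (hWTS.2 hw), S.perp_anti h0B.le (h0TS.2 ho₁Y),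
        S.perp_anti h1B.le (h1TS.2 ho₂Y)⟩
    have hgH : g ∈ H := hH.2 w o₁ o₂ g hg hp.1 hp.2.1 hp.2.2
    refine ⟨g, ⟨⟨hgH, hg.fix_of_mem S hWTS hw⟩,
      fun Z hZ hWZ => hg.fix_of_mem S hZ (hWZ hw)⟩, ?_⟩
    conv_lhs => rw [e0, ← es, hg.act_sup_span S (hH.1 hgH), es', ← e1]
  have h1 : hsum H (fun g => S.chi B g * S.chi B g) = hsum H (S.chi B) -
      ∑ Y ∈ Finset.univ.filter (S.Above B),
        hsum (H ⊓ S.stab Y) (fun g => S.chi Y g * S.chi B g) := by
    rw [← S.hsum_swap H _ (fun Y g => S.chi Y g * S.chi B g), ← hsum_sub]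
    refine hsum_congr fun g _ => ?_
    conv_lhs => rw [S.chi_eq_one_sub B g]
    rw [Finset.filter_filter, sub_mul, one_mul, Finset.sum_mul, ← S.chi_eq_one_sub B g]
  rw [h1, ← Finset.sum_filter_add_sum_filter_not (Finset.univ.filter (S.Above B)) (Cover B),
    Finset.sum_eq_zero (fun W hW => hnot W (Finset.mem_filter.1 hW).1 (Finset.mem_filter.1 hW).2),
    add_zero, Finset.filter_filter, Finset.sum_congr rfl hcov, Finset.sum_neg_distrib, S.sum_chi hH]
  ring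

/-- The elements fixing `x` and moving its orthogonal along `x`. -/
def trans (B : Submodule F V) (x : V) : Subgroup G where
  carrier := {n | n ∈ S.stab B ∧ S.ρ n x = x ∧ ∀ v, S.f v x = 0 → ∃ c : F, S.ρ n v = v + c • x}
  one_mem' := ⟨one_mem _, by simp, fun v _ => ⟨0, by simp⟩⟩
  mul_mem' := fun {a b} ha hb => by
    refine ⟨mul_mem ha.1 hb.1, by simp [map_mul, hb.2.1, ha.2.1], fun v hv => ?_⟩
    obtain ⟨c, hc⟩ := hb.2.2 v hv
    obtain ⟨d, hd⟩ := ha.2.2 v hv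
    refine ⟨d + c, ?_⟩
    rw [map_mul, LinearEquiv.mul_apply, hc, map_add, map_smul, hd, ha.2.1, add_smul, add_assoc]
  inv_mem' := fun {a} ha => by
    have hax : S.ρ a⁻¹ x = x := by
      conv_lhs => rw [← ha.2.1, ← LinearEquiv.mul_apply, ← map_mul, inv_mul_cancel, map_one]
      rfl
    refine ⟨inv_mem ha.1, hax, fun v hv => ?_⟩
    have hu : S.f (S.ρ a⁻¹ v) x = 0 := by rw [← S.f_inv a⁻¹, hax] at hv; exact hv
    obtain ⟨c, hc⟩ := ha.2.2 _ hu
    rw [← LinearEquiv.mul_apply, ← map_mul, mul_inv_cancel, map_one] at hc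
    refine ⟨-c, ?_⟩
    rw [show S.ρ a⁻¹ v = v - c • x from eq_sub_of_add_eq hc.symm, neg_smul, sub_eq_add_neg]

omit [Finite G] in
theorem isPGroup_trans (p : ℕ) [Fact p.Prime] [CharP F p] (B : Submodule F V) {x : V}
    (hx : S.f x x = 0) : IsPGroup p (S.trans B x) := by
  rintro ⟨n, hn⟩
  refine ⟨2, Subtype.ext ?_⟩
  have hp := (Fact.out : p.Prime)
  let T : Module.End F V := (S.ρ n).toLinearMap
  have hT : ∀ v, (T - 1) v = S.ρ n v - v := fun v => rfl
  have h1 : ∀ v, S.f ((T - 1) v) x = 0 := fun v => by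
    rw [hT, S.f_sub]
    nth_rewrite 1 [← hn.2.1]
    rw [S.f_inv, sub_self]
  have h3 : (T - 1) ^ 3 = 0 := by
    refine LinearMap.ext fun v => ?_
    obtain ⟨c, hc⟩ := hn.2.2 _ (h1 v)
    rw [pow_succ', pow_two, Module.End.mul_apply, Module.End.mul_apply]
    rw [show (T - 1) ((T - 1) v) = c • x by rw [hT, hc, add_sub_cancel_left], map_smul, hT,
      hn.2.1, sub_self, smul_zero]
    rfl
  have hcast : ((p : ℕ) : Module.End F V) = 0 := by
    rw [← map_natCast (algebraMap F (Module.End F V)) p, CharP.cast_eq_zero, map_zero]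
  have hpow : T ^ p ^ 2 = 1 := by
    have hc : Commute (T - 1) (1 : Module.End F V) := Commute.one_right _
    have := hc.add_pow_prime_pow_eq hp 2
    simp only [sub_add_cancel, one_pow, hcast, zero_mul, add_zero] at this
    rw [this, show p ^ 2 = 3 + (p ^ 2 - 3) by
      have := Nat.pow_le_pow_left hp.two_le 2
      omega, pow_add, h3, zero_mul, zero_add]
  refine S.ρ_inj (LinearEquiv.toLinearMap_injective ?_)
  simp only [SubmonoidClass.coe_pow, map_pow, OneMemClass.coe_one, map_one]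
  rw [show ((S.ρ n) ^ p ^ 2).toLinearMap = T ^ p ^ 2 from ?_]
  · exact hpow
  · exact map_pow (LinearEquiv.automorphismGroup.toLinearMapMonoidHom (R := F) (M := V)) _ _

/-- The degree of a count is zero or a power of the characteristic. -/
theorem degree (p : ℕ) [Fact p.Prime] [CharP F p] :
    ∀ {B : Submodule F V}, S.TS B →
      (S.chi B 1).natAbs = 0 ∨ ∃ k, (S.chi B 1).natAbs = p ^ k := by
  classical
  intro B
  induction B using WellFoundedGT.induction with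
  | ind B IH =>
  intro hB
  by_cases hne : (Finset.univ.filter (S.Above B)).Nonempty
  swap
  · refine Or.inr ⟨0, ?_⟩
    rw [S.chi_eq_one_sub, ← Finset.filter_filter, Finset.not_nonempty_iff_eq_empty.1 hne]
    simp
  obtain ⟨W, hW, hmin⟩ := Finset.exists_minimal hne
  simp only [Finset.mem_filter, Finset.mem_univ, true_and] at hW hmin
  obtain ⟨hWTS, hBW⟩ := hW
  have hc : Cover B W := Cover.of_forall hBW fun Y h1 h2 => by
    by_contra h
    exact h (le_antisymm h2 (hmin ⟨hWTS.mono S h2, h1⟩ h2))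
  obtain ⟨x, hx, hxB, e⟩ := id hc
  set N := S.trans B x with hN
  have hNW : ∀ n ∈ N, n ∈ S.stab W := fun n hn => by
    rw [e]
    refine S.stab_sup hn.1 (S.mem_stab_of_le fun v hv => ?_)
    obtain ⟨c, rfl⟩ := Submodule.mem_span_singleton.1 hv
    rw [map_smul, hn.2.1]
    exact Submodule.smul_mem _ _ (Submodule.mem_span_singleton_self x)
  have htr : ∀ Y ∈ S.opp B (S.perp W), ∀ Y' ∈ S.opp B (S.perp W), ∃ n ∈ N, S.act n Y = Y' := by
    intro Y₀ hY₀ Y₁ hY₁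
    obtain ⟨o, ho, hoB, e0⟩ := S.opp_perp_pair hY₀ hc
    obtain ⟨o', ho', hoB', e1⟩ := S.opp_perp_pair hY₁ hc
    obtain ⟨⟨h0TS, h0B⟩, h0inf⟩ := S.mem_opp.1 hY₀
    obtain ⟨⟨h1TS, h1B⟩, h1inf⟩ := S.mem_opp.1 hY₁
    have hpair : ∀ {u : V} {Y : Submodule F V}, S.TS Y → B ≤ Y → u ∈ Y → u ∉ B →
        Y ⊓ S.perp W = B → S.f u x ≠ 0 := fun {u Y} hY hBY hu hub hYW h0 => hub (by
      rw [← hYW]
      refine ⟨hu, ?_⟩
      rw [e]
      exact S.perp_mono_span (S.perp_anti hBY (hY.2 hu)) h0)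
    obtain ⟨o₁, ho₁, ho₁x, es⟩ := S.exists_scaled (h0TS.1 o ho) (hpair h0TS h0B.le ho hoB h0inf)
    obtain ⟨o₂, ho₂, ho₂x, es'⟩ :=
      S.exists_scaled (h1TS.1 o' ho') (hpair h1TS h1B.le ho' hoB' h1inf)
    have ho₁Y : o₁ ∈ Y₀ := by
      rw [e0, ← es]; exact Submodule.mem_sup_right (Submodule.mem_span_singleton_self o₁)
    have ho₂Y : o₂ ∈ Y₁ := by
      rw [e1, ← es']; exact Submodule.mem_sup_right (Submodule.mem_span_singleton_self o₂)
    obtain ⟨g, hg⟩ := S.exists_spec (hWTS.1 x hx) ho₁ ho₂ ho₁x ho₂x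
    have hgB : g ∈ S.stab B := hg.fix_of_perp S (S.perp_anti hBW.le (hWTS.2 hx))
      (S.perp_anti h0B.le (h0TS.2 ho₁Y)) (S.perp_anti h1B.le (h1TS.2 ho₂Y))
    refine ⟨g, ⟨hgB, hg.2.2.2.2.2.1, hg.2.2.2.2.2.2.2.1⟩, ?_⟩
    conv_lhs => rw [e0, ← es, hg.act_sup_span S hgB, es', ← e1]
  obtain ⟨k, -, hk⟩ := S.count_trans (N := N)
    (fun n hn Y hY => S.opp_act hn.1 (S.stab_perp (hNW n hn)) hY) htr
  obtain ⟨a, ha⟩ := (S.isPGroup_trans p B (S.sg_self x (hWTS.1 x hx))).exists_card_eq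
  obtain ⟨b, -, hb⟩ := (Nat.dvd_prime_pow (Fact.out : p.Prime)).1
    (Dvd.intro k ((hk (S.opp_nonempty hWTS hc)).trans ha))
  have hval : S.chi B 1 = -((S.opp B (S.perp W)).card * S.chi W 1) := by
    rw [S.contract' hWTS hBW hWTS.2 le_rfl (one_mem _) (one_mem _),
      Finset.filter_true_of_mem fun Y _ => one_mem _,
      Finset.sum_congr rfl fun Y hY => ?_, Finset.sum_const, nsmul_eq_mul]
    obtain ⟨⟨hYTS, hBY⟩, hinf⟩ := S.mem_opp.1 hY
    exact S.chi_transfer hWTS hYTS hBW.le hBY.le hinf (S.opp_symm hc hWTS hYTS hBY hinf)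
      (one_mem _) (one_mem _)
  rw [hval, Int.natAbs_neg, Int.natAbs_mul, Int.natAbs_natCast, hb]
  rcases IH W hBW hWTS with h | ⟨j, hj⟩
  · exact Or.inl (by rw [h, mul_zero])
  · exact Or.inr ⟨b + j, by rw [hj, pow_add]⟩

/-- The count vanishes at unipotent elements with a suitable fixed singular vector. -/
theorem vanish (p : ℕ) [Fact p.Prime] [CharP F p] {u : G} {k : ℕ} (hu : u ^ p ^ k = 1) {r : V}
    (hr : r ≠ 0) (hsg : S.sg r) (hfix : S.ρ u r = r)
    (hperp : ∀ v, S.ρ u v = v → S.f v r = 0) : S.chi ⊥ u = 0 := by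
  classical
  let K : Submodule F V := LinearMap.ker ((S.ρ u).toLinearMap - 1)
  have hK : ∀ v, v ∈ K ↔ S.ρ u v = v := fun v => by
    simp [K, LinearMap.mem_ker, sub_eq_zero]
  have hWK : Submodule.span F {r} ≤ K :=
    (Submodule.span_singleton_le_iff_mem r _).2 ((hK r).2 hfix)
  have hKW : K ≤ S.perp (Submodule.span F {r}) := fun v hv w hw => by
    obtain ⟨c, rfl⟩ := Submodule.mem_span_singleton.1 hw
    exact S.f_symm0 _ _ (by rw [S.f_smul, S.f_symm0 _ _ (hperp v ((hK v).1 hv)), mul_zero])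
  have hstabW : u ∈ S.stab (Submodule.span F {r}) := S.mem_stab_of_le fun v hv => by
    obtain ⟨c, rfl⟩ := Submodule.mem_span_singleton.1 hv
    rw [map_smul, hfix]
    exact Submodule.smul_mem _ _ (Submodule.mem_span_singleton_self r)
  rw [S.contract' (S.TS_span hsg) ?_ hWK hKW hstabW
    (S.mem_stab_of_le fun v hv => by rw [(hK v).1 hv]; exact hv)]
  swap
  · exact bot_lt_iff_ne_bot.2 fun h => hr (by simpa using h)
  rw [neg_eq_zero]
  refine Finset.sum_eq_zero fun Y hY => ?_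
  exfalso
  obtain ⟨hY, huY⟩ := Finset.mem_filter.1 hY
  obtain ⟨⟨-, hlt⟩, hinf⟩ := S.mem_opp.1 hY
  obtain ⟨y, hy, hy0⟩ := SetLike.exists_of_lt hlt
  set T : Module.End F V := (S.ρ u).toLinearMap with hT
  have hTY : ∀ j : ℕ, ((T - 1) ^ j) y ∈ Y := fun j => by
    induction j with
    | zero => simpa using hy
    | succ j ih =>
      rw [pow_succ', Module.End.mul_apply]
      refine sub_mem ?_ ih
      exact huY ▸ S.mem_act.2 ⟨_, ih, rfl⟩
  have hnil : (T - 1) ^ p ^ k = 0 := by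
    have hcast : ((p : ℕ) : Module.End F V) = 0 := by
      rw [← map_natCast (algebraMap F (Module.End F V)) p, CharP.cast_eq_zero, map_zero]
    have hTp : T ^ p ^ k = 1 := by
      have := map_pow (LinearEquiv.automorphismGroup.toLinearMapMonoidHom (R := F) (M := V))
        (S.ρ u) (p ^ k)
      rw [← map_pow S.ρ, hu, map_one, map_one] at this
      exact this.symm
    have h := (Commute.one_right (T - 1)).add_pow_prime_pow_eq (Fact.out : p.Prime) k
    simp only [sub_add_cancel, one_pow, hcast, zero_mul, add_zero, hTp] at h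
    exact add_eq_right.1 h.symm
  have hex : ∃ j : ℕ, ((T - 1) ^ j) y = 0 := ⟨p ^ k, by rw [hnil]; rfl⟩
  have hj : Nat.find hex ≠ 0 := fun h => hy0 ((Submodule.mem_bot F).2 (by
    have := Nat.find_spec hex
    rw [h] at this
    simpa using this))
  obtain ⟨j, hj'⟩ := Nat.exists_eq_succ_of_ne_zero hj
  have h1 : ((T - 1) ^ j) y ≠ 0 := Nat.find_min hex (by omega)
  have h2 : ((T - 1) ^ (j + 1)) y = 0 := by
    have := Nat.find_spec hex
    rwa [hj'] at this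
  rw [pow_succ', Module.End.mul_apply] at h2
  refine h1 ((Submodule.mem_bot F).1 (hinf ▸ (⟨hTY j, (hK _).2 ?_⟩ : _ ∈ Y ⊓ K)))
  exact sub_eq_zero.1 h2

end Setting

end CfsgLib.SteinbergPolar
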