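import Cfsg.Agent.S2566
import Cfsg.Agent.Lib.Classical.SymmOrth
import Cfsg.Agent.Lib.Perm.PermChar
import Cfsg.Agent.Lib.Char.Virtual
import Cfsg.Agent.Lib.Char.DefectZero

/-!
The group `PΩ⁺₄(2)` of order `18` and its Steinberg character.
-/

set_option autoImplicit false
set_option linter.unusedSectionVars false

open Cfsg
open scoped commutatorElement

namespace CfsgLib.SteinbergPolar

section abstract

variable {I : Type*} [Group I]

local notation "P" => Equiv.Perm (Fin 3)

/-- The commutator subgroup of an extension of `S₃ × S₃` by a swap. -/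
theorem commutator_eighteen [Finite I] (f : P × P →* I) (hf : Function.Injective f)
    (hidx : f.range.index = 2) (g : I) (hg : ∀ a, ∃ b, g * f (a, 1) * g⁻¹ = f (1, b)) :
    ∃ ψ : ↥(commutator I) →* P, Function.Surjective ψ ∧ Nat.card ↥(commutator I) ∣ 18 ∧
      Subgroup.center ↥(commutator I) = ⊥ := by
  classical
  have hRn : f.range.Normal := Subgroup.normal_of_index_eq_two hidx
  -- the action of `g` on the first factor
  choose α hα using hg
  have hαmul : ∀ a b, α (a * b) = α a * α b := fun a b => by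
    have h : f (1, α (a * b)) = f (1, α a) * f (1, α b) := by
      rw [← hα, ← hα, ← hα, show ((a * b, 1) : P × P) = (a, 1) * (b, 1) by simp, map_mul]
      group
    rw [← map_mul] at h
    simpa using hf h
  let αh : P →* P := MonoidHom.mk' α hαmul
  have hαinj : Function.Injective αh := fun a b h => by
    have h' : g * f (a, 1) * g⁻¹ = g * f (b, 1) * g⁻¹ := by
      rw [hα, hα]
      exact congrArg (fun c => f (1, c)) h
    simpa using hf (mul_left_cancel (mul_right_cancel h'))
  have hαbij : Function.Bijective αh := Finite.injective_iff_bijective.1 hαinj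
  have hsign : ∀ a, Equiv.Perm.sign (αh a) = Equiv.Perm.sign a := fun a => by
    have h := Equiv.Perm.eq_sign_of_surjective_hom (s := Equiv.Perm.sign.comp αh)
      (by rw [MonoidHom.coe_comp]; exact (Equiv.Perm.sign_surjective (Fin 3)).comp hαbij.2)
    exact DFunLike.congr_fun h a
  -- the pairs with equal signs
  let s : P × P →* ℤˣ :=
    MonoidHom.mk' (fun x => Equiv.Perm.sign x.1 * Equiv.Perm.sign x.2) fun x y => by
      simp only [Prod.fst_mul, Prod.snd_mul, map_mul]
      exact mul_mul_mul_comm _ _ _ _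
  set D : Subgroup I := s.ker.map f with hD
  have hDle : D ≤ f.range := Subgroup.map_le_range f _
  have hcardR : Nat.card f.range = 36 := by
    rw [Nat.card_congr (MonoidHom.ofInjective hf).symm.toEquiv, Nat.card_prod, Nat.card_perm,
      Nat.card_fin]
    rfl
  have hcardD : Nat.card D = 18 := by
    rw [hD, Nat.card_congr (Subgroup.equivMapOfInjective _ f hf).symm.toEquiv]
    have h := s.ker.card_mul_index
    rw [Subgroup.index_ker, MonoidHom.range_eq_top.2 (fun u => ?_), Subgroup.card_top,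
      Nat.card_prod, Nat.card_perm, Nat.card_fin, Nat.card_eq_fintype_card (α := ℤˣ)] at h
    · rw [show Fintype.card ℤˣ = 2 from rfl, show Nat.factorial 3 = 6 from rfl] at h
      omega
    · obtain ⟨a, ha⟩ := Equiv.Perm.sign_surjective (Fin 3) u
      exact ⟨(a, 1), by simp [s, ha]⟩
  -- the swap
  have hgin : ∀ x ∈ D, g * x * g⁻¹ ∈ D := by
    rintro _ ⟨⟨a, b⟩, hab, rfl⟩
    -- `g² ∈ f.range`, so the second factor goes to the first
    have hg2 : g * g ∈ f.range := by
      have h := Subgroup.mul_mem_iff_of_index_two hidx (a := g) (b := g)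
      exact h.2 Iff.rfl
    obtain ⟨⟨c, d⟩, hcd⟩ := hg2
    obtain ⟨b', hb'⟩ := hαbij.2 b
    have hb : g * f (1, b) * g⁻¹ = f (c * b' * c⁻¹, 1) := by
      rw [← hb', show αh b' = α b' from rfl, ← hα]
      rw [show g * (g * f (b', 1) * g⁻¹) * g⁻¹ = (g * g) * f (b', 1) * (g * g)⁻¹ by group, ← hcd,
        ← map_inv, ← map_mul, ← map_mul]
      congr 1
      simp
    refine ⟨(c * b' * c⁻¹, αh a), ?_, ?_⟩
    · simp only [SetLike.mem_coe, MonoidHom.mem_ker, s, MonoidHom.mk'_apply, map_mul, map_inv,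
        hsign] at hab ⊢
      rw [← hb', hsign] at hab
      rw [mul_right_comm (Equiv.Perm.sign c), mul_inv_cancel, one_mul, mul_comm]
      exact hab
    · rw [show ((a, b) : P × P) = (a, 1) * (1, b) by simp,
        show ((c * b' * c⁻¹, αh a) : P × P) = (1, αh a) * (c * b' * c⁻¹, 1) by simp,
        map_mul, map_mul, ← hb, show αh a = α a from rfl, ← hα]
      group
  have hgnot : g ∉ f.range := fun hmem => by
    obtain ⟨⟨c, d⟩, rfl⟩ := hmem
    have h := hα (Equiv.swap 0 1)
    rw [← map_inv, ← map_mul, ← map_mul] at h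
    have h1 := congrArg Prod.fst (hf h)
    simp at h1
  have hDn : D.Normal := by
    refine ⟨fun x hx y => ?_⟩
    have hR : ∀ r ∈ f.range, ∀ x ∈ D, r * x * r⁻¹ ∈ D := by
      rintro _ ⟨r, rfl⟩ _ ⟨x, hx, rfl⟩
      exact ⟨r * x * r⁻¹, (MonoidHom.normal_ker s).conj_mem x hx r, by simp⟩
    by_cases hy : y ∈ f.range
    · exact hR y hy x hx
    · have hr : y * g⁻¹ ∈ f.range := by
        rw [Subgroup.mul_mem_iff_of_index_two hidx]
        simp [hy, hgnot]
      have h := hR _ hr _ (hgin x hx)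
      rwa [show y * g⁻¹ * (g * x * g⁻¹) * (y * g⁻¹)⁻¹ = y * x * y⁻¹ by group] at h
  have hDidx : D.index = 4 := by
    have h := D.index_mul_card
    have h' := f.range.index_mul_card
    rw [hcardD] at h
    rw [hidx, hcardR] at h'
    omega
  have hle : commutator I ≤ D := by
    have : Fact (Nat.Prime 2) := ⟨Nat.prime_two⟩
    have hc : Nat.card (I ⧸ D) = 2 ^ 2 := by rw [← Subgroup.index_eq_card, hDidx]; norm_num
    have hcomm : ∀ a b : I ⧸ D, a * b = b * a := IsPGroup.commutative_of_card_eq_prime_sq hc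
    rw [commutator_def, Subgroup.commutator_le]
    intro a _ b _
    rw [← QuotientGroup.eq_one_iff, ← QuotientGroup.mk'_apply, map_commutatorElement,
      commutatorElement_eq_one_iff_commute]
    exact hcomm _ _
  -- the projections
  let e : ↥(commutator I) →* P × P :=
    (MonoidHom.ofInjective hf).symm.toMonoidHom.comp (Subgroup.inclusion (hle.trans hDle))
  have he : ∀ x, f (e x) = (x : I) := fun x =>
    congrArg Subtype.val ((MonoidHom.ofInjective hf).apply_symm_apply _)
  have heinj : Function.Injective e := fun x y h => Subtype.ext (by rw [← he, ← he, h])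
  have hpair : ∀ a, ∃ x : ↥(commutator I), e x = (a⁻¹, αh a) := fun a => by
    have hmem : ⁅g, f (a, 1)⁆ ∈ commutator I :=
      Subgroup.commutator_mem_commutator (Subgroup.mem_top _) (Subgroup.mem_top _)
    refine ⟨⟨_, hmem⟩, hf ?_⟩
    rw [he, show ((a⁻¹, αh a) : P × P) = (1, αh a) * (a, 1)⁻¹ by simp,
      map_mul, map_inv, show αh a = α a from rfl, ← hα]
    exact commutatorElement_def g (f (a, 1))
  refine ⟨(MonoidHom.fst P P).comp e, fun a => ?_, ?_, ?_⟩
  · obtain ⟨x, hx⟩ := hpair a⁻¹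
    exact ⟨x, by simp [hx]⟩
  · exact hcardD ▸ Subgroup.card_dvd_of_le hle
  · refine (Subgroup.eq_bot_iff_forall _).2 fun z hz => heinj ?_
    have hcen : ∀ a : P, (a⁻¹, αh a) * e z = e z * (a⁻¹, αh a) := fun a => by
      obtain ⟨x, hx⟩ := hpair a
      rw [← hx, ← map_mul, ← map_mul, Subgroup.mem_center_iff.1 hz x]
    have hZ : ∀ u : P, (∀ a, a * u = u * a) → u = 1 := by decide
    rw [map_one]
    refine Prod.ext (hZ _ fun a => ?_) (hZ _ fun a => ?_)
    · simpa using congrArg Prod.fst (hcen a⁻¹)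
    · obtain ⟨b, rfl⟩ := hαbij.2 a
      simpa using congrArg Prod.snd (hcen b)

/-- The irreducible character of degree two of `S₃`. -/
theorem exists_irr_two : ∃ χ : P → ℂ, IsIrrCharacter P χ ∧ χ 1 = 2 := by
  classical
  let φ : P → ℂ := fun x => (((Finset.univ.filter fun i : Fin 3 => x i = i).card : ℤ) - 1 : ℤ)
  have hφ : IsGeneralizedCharacter P φ := by
    refine ⟨_, _, CfsgLib.Char.isCharacter_character (Cfsg.permRep ℂ P (Fin 3)),
      CfsgLib.Char.isCharacter_one, ?_⟩
    funext x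
    simp only [φ, Pi.sub_apply, Cfsg.Agent.Lib.Perm.permRep_character, Nat.card_coe_set_eq,
      Set.ncard_eq_toFinset_card']
    push_cast
    congr 2
    congr 1
    ext i
    simp [MulAction.mem_fixedBy]
  have hnorm : classInner φ φ = 1 := by
    simp only [classInner, φ, map_intCast]
    have h : (∑ x : P, (((Finset.univ.filter fun i : Fin 3 => x i = i).card : ℤ) - 1) *
        (((Finset.univ.filter fun i : Fin 3 => x i = i).card : ℤ) - 1)) = 6 := by decide
    have h' := congrArg (fun z : ℤ => (z : ℂ)) h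
    simp only [Int.cast_sum, Int.cast_mul] at h'
    rw [h', Nat.card_perm, Nat.card_fin]
    norm_num [Nat.factorial]
  obtain ⟨ε, hε, ψ, hψ⟩ := CfsgLib.Char.exists_of_norm_one hφ hnorm
  have h1 : φ 1 = ε * (ψ : P → ℂ) 1 := by rw [hψ]; rfl
  have h2 : φ 1 = 2 := by simp [φ]; norm_num
  obtain ⟨d, hd, hd0, -⟩ := CfsgLib.Char.exists_degree_dvd_card ψ.2
  rcases hε with rfl | rfl
  · exact ⟨ψ, ψ.2, by rw [← h2, h1, one_mul]⟩
  · exfalso
    rw [h2, hd, neg_one_mul] at h1
    have h3 : (2 : ℤ) = -(d : ℤ) := by exact_mod_cast h1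
    omega

end abstract

/-- The Steinberg character of `PΩ⁺₄(2)`. -/
theorem plus_four_two_steinberg {F : Type*} [Field F] [Fintype F] (p : ℕ) [Fact p.Prime]
    [CharP F p] (hF : Fintype.card F = 2) :
    ∃ χ : Cfsg.POmega F (Cfsg.quadFormPlus 2 F) → ℂ,
      Cfsg.IsIrrCharacter (Cfsg.POmega F (Cfsg.quadFormPlus 2 F)) χ ∧
      ∀ S : Sylow p (Cfsg.POmega F (Cfsg.quadFormPlus 2 F)), χ 1 = Nat.card S ∧
        ∀ x : Cfsg.POmega F (Cfsg.quadFormPlus 2 F), x ∈ S → x ≠ 1 → χ x = 0 := by
  classical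
  obtain rfl : p = 2 := by
    obtain ⟨k, hp, hk⟩ := FiniteField.card F p
    rw [hF] at hk
    exact ((Nat.prime_dvd_prime_iff_eq hp Nat.prime_two).1 (hk ▸ dvd_pow_self p k.ne_zero))
  let φ : F ≃+* ZMod 2 := (ZMod.ringEquivOfPrime F Nat.prime_two hF).symm
  obtain ⟨e⟩ := CfsgLib.Classical.SymmOrth.iso_transfer φ (Cfsg.quadFormPlus 2 F)
    (Cfsg.quadFormPlus 2 (ZMod 2)) fun v => by simp [Cfsg.quadFormPlus, map_sum]
  obtain ⟨-, A, B, ⟨eA⟩, ⟨eB⟩, hinf, hcomm, hidx, g, hg⟩ := Cfsg.Agent.S2566.result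
  let i₁ := (Subgroup.subtype A).comp eA.symm.toMonoidHom
  let i₂ := (Subgroup.subtype B).comp eB.symm.toMonoidHom
  let f : Equiv.Perm (Fin 3) × Equiv.Perm (Fin 3) →*
      ↥(Cfsg.isometryGroup F (Cfsg.quadFormPlus 2 F)) :=
    e.symm.toMonoidHom.comp
      (MonoidHom.noncommCoprod i₁ i₂ fun a b => hcomm _ (eA.symm a).2 _ (eB.symm b).2)
  have hr₁ : i₁.range = A := by
    rw [MonoidHom.range_comp, MonoidHom.range_eq_top.2 eA.symm.surjective,
      ← MonoidHom.range_eq_map, Subgroup.range_subtype]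
  have hr₂ : i₂.range = B := by
    rw [MonoidHom.range_comp, MonoidHom.range_eq_top.2 eB.symm.surjective,
      ← MonoidHom.range_eq_map, Subgroup.range_subtype]
  have hf : Function.Injective f := by
    refine e.symm.injective.comp ((MonoidHom.noncommCoprod_injective _ _ _).2
      ⟨(Subgroup.subtype_injective A).comp eA.symm.injective,
        (Subgroup.subtype_injective B).comp eB.symm.injective, ?_⟩)
    rw [hr₁, hr₂, disjoint_iff]
    exact hinf
  have hidx' : f.range.index = 2 := by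
    have hr : (MonoidHom.noncommCoprod i₁ i₂
        fun a b => hcomm _ (eA.symm a).2 _ (eB.symm b).2).range = A ⊔ B := by
      refine (MonoidHom.noncommCoprod_range _ _ _).trans ?_
      rw [hr₁, hr₂]
    rw [MonoidHom.range_comp, hr]
    rw [Subgroup.index_map_of_bijective (show Function.Bijective e.symm.toMonoidHom from
      e.symm.bijective)]
    exact hidx
  have hg' : ∀ a, ∃ b, e.symm g * f (a, 1) * (e.symm g)⁻¹ = f (1, b) := fun a => by
    have hm : g * i₁ a * g⁻¹ ∈ B := hg ▸ ⟨i₁ a, (eA.symm a).2, rfl⟩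
    refine ⟨eB ⟨_, hm⟩, ?_⟩
    simp only [f, MonoidHom.comp_apply, MonoidHom.noncommCoprod_apply, map_one, mul_one, one_mul,
      MulEquiv.coe_toMonoidHom, ← map_inv, ← map_mul]
    congr 1
    simp [i₂]
  obtain ⟨ψ, hψ, hdvd, hcen⟩ := commutator_eighteen f hf hidx' (e.symm g) hg'
  obtain ⟨χ₀, hχ₀, hχ₀1⟩ := exists_irr_two
  let π : Cfsg.POmega F (Cfsg.quadFormPlus 2 F) →* Equiv.Perm (Fin 3) :=
    QuotientGroup.lift _ ψ (by rw [hcen]; exact bot_le)
  have hπ : Function.Surjective π := fun a => by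
    obtain ⟨x, rfl⟩ := hψ a
    exact ⟨(x : Cfsg.POmega F (Cfsg.quadFormPlus 2 F)), rfl⟩
  refine ⟨fun x => χ₀ (π x), CfsgLib.Char.isIrrCharacter_comp hπ hχ₀, fun S => ?_⟩
  have hdvd' : Nat.card (Cfsg.POmega F (Cfsg.quadFormPlus 2 F)) ∣ 18 :=
    (Subgroup.card_quotient_dvd_card _).trans hdvd
  have h6 : 6 ∣ Nat.card (Cfsg.POmega F (Cfsg.quadFormPlus 2 F)) := by
    have h := Subgroup.card_dvd_of_surjective π hπ
    rwa [Nat.card_perm, Nat.card_fin, show Nat.factorial 3 = 6 from rfl] at h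
  have hfac : (Nat.card (Cfsg.POmega F (Cfsg.quadFormPlus 2 F))).factorization 2 = 1 := by
    have h2 : 2 ^ 1 ∣ Nat.card (Cfsg.POmega F (Cfsg.quadFormPlus 2 F)) :=
      (show (2 : ℕ) ^ 1 ∣ 6 by norm_num).trans h6
    have h4 : ¬ 2 ^ 2 ∣ Nat.card (Cfsg.POmega F (Cfsg.quadFormPlus 2 F)) := fun h =>
      absurd (h.trans hdvd') (by norm_num)
    have a := (Nat.prime_two.pow_dvd_iff_le_factorization Nat.card_pos.ne').1 h2
    have b : ¬ 2 ≤ (Nat.card (Cfsg.POmega F (Cfsg.quadFormPlus 2 F))).factorization 2 := fun hle =>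
      h4 ((Nat.prime_two.pow_dvd_iff_le_factorization Nat.card_pos.ne').2 hle)
    omega
  have hS : Nat.card S = 2 := by rw [S.card_eq_multiplicity, hfac, pow_one]
  refine ⟨?_, fun x hx hx1 => ?_⟩
  · simp only [map_one, hχ₀1, hS]
    norm_num
  · refine CfsgLib.Char.defect_zero_vanish (χ := fun x => χ₀ (π x))
      (CfsgLib.Char.isIrrCharacter_comp hπ hχ₀) (p := 2) (n := 1) (d := 2)
      (by simp only [map_one, hχ₀1]; norm_num) ?_ ?_ (by norm_num) ?_
    · exact (show (2 : ℕ) ^ 1 ∣ 6 by norm_num).trans h6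
    · exact fun h => absurd (h.trans hdvd') (by norm_num)
    · have h : orderOf (⟨x, hx⟩ : S) ∣ 2 :=
        (orderOf_dvd_natCard (⟨x, hx⟩ : S)).trans (dvd_of_eq hS)
      rcases (Nat.dvd_prime Nat.prime_two).1 h with h | h
      · exact absurd (congrArg Subtype.val (orderOf_eq_one_iff.1 h)) hx1
      · rw [Subgroup.orderOf_mk] at h
        rw [h]

end CfsgLib.SteinbergPolar
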