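import Cfsg.Agent.Lib.SteinbergPolar.Character
import Cfsg.Agent.Lib.ClassicalAut.Space

/-!
The polar space setting of an alternating or Hermitian space.
-/

set_option autoImplicit false
set_option linter.unusedSectionVars false

open Cfsg
open scoped Matrix

namespace CfsgLib.SteinbergPolar

section matrices

variable {F : Type*} [Field F] {ι : Type} [Fintype ι] [DecidableEq ι] {G : Type*} [Group G]

/-- The action attached to a matrix representation. -/
noncomputable def ofMatrix (M : G →* Matrix ι ι F) : G →* ((ι → F) ≃ₗ[F] (ι → F)) :=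
  (LinearMap.GeneralLinearGroup.generalLinearEquiv F (ι → F)).toMonoidHom.comp
    ((Units.map ((Matrix.toLinAlgEquiv' : Matrix ι ι F ≃ₐ[F] ((ι → F) →ₗ[F] (ι → F))) :
      Matrix ι ι F →* ((ι → F) →ₗ[F] (ι → F)))).comp M.toHomUnits)

theorem ofMatrix_apply (M : G →* Matrix ι ι F) (g : G) (v : ι → F) : ofMatrix M g v = M g *ᵥ v := rfl

theorem ofMatrix_injective {M : G →* Matrix ι ι F} (hM : Function.Injective M) :
    Function.Injective (ofMatrix M) := fun g h e => hM (Matrix.ext_of_mulVec_single fun i => by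
  rw [← ofMatrix_apply, ← ofMatrix_apply, e])

/-- A unipotent matrix has determinant one. -/
theorem det_eq_one_of_unipotent (p : ℕ) [Fact p.Prime] [CharP F p] [Finite F]
    (T : (ι → F) →ₗ[F] (ι → F)) (h : (T - 1) ^ 3 = 0) : (LinearMap.toMatrix' T).det = 1 := by
  set A := LinearMap.toMatrix' T with hA
  have hA3 : (A - 1) ^ 3 = 0 := by
    rw [hA, ← LinearMap.toMatrix'_one]
    change ((LinearMap.toMatrixAlgEquiv' : _ ≃ₐ[F] Matrix ι ι F) T -
      LinearMap.toMatrixAlgEquiv' 1) ^ 3 = 0
    rw [← map_sub, ← map_pow, h, map_zero]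
  have hcast : ((p : ℕ) : Matrix ι ι F) = 0 := by
    rw [← map_natCast (algebraMap F (Matrix ι ι F)) p, CharP.cast_eq_zero, map_zero]
  have hp := (Fact.out : p.Prime)
  have hpow : A ^ p ^ 2 = 1 := by
    have := (Commute.one_right (A - 1)).add_pow_prime_pow_eq hp 2
    simp only [sub_add_cancel, one_pow, hcast, zero_mul, add_zero] at this
    rw [this, show p ^ 2 = 3 + (p ^ 2 - 3) by
      have := Nat.pow_le_pow_left hp.two_le 2
      omega, pow_add, hA3, zero_mul, zero_add]
  have hd : A.det ^ p ^ 2 = 1 := by rw [← Matrix.det_pow, hpow, Matrix.det_one]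
  exact (iterateFrobenius_inj F p 2) (by rw [iterateFrobenius_def, iterateFrobenius_def, hd, one_pow])

end matrices

variable {F V G : Type*} [Field F] [AddCommGroup V] [Module F V] [Group G] [Finite F] [Finite V]

open CfsgLib.ClassicalAut in
/-- A functional is given by a vector. -/
theorem exists_dual (S : Space F V) (φ : Module.Dual F V) : ∃ u, ∀ w, S.h w u = φ w := by
  let Φ : V → Module.Dual F V := fun u =>
    { toFun := fun w => S.h w u
      map_add' := fun a b => S.add_left a b u
      map_smul' := fun c a => S.smul_left c a u }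
  have hinj : Function.Injective Φ := fun a b e => sub_eq_zero.1 (S.nondeg _ fun u => by
    rw [S.sub_right, sub_eq_zero]
    exact LinearMap.congr_fun e u)
  have : Finite (Module.Dual F V) :=
    Module.finite_of_finite F
  have hcard : Nat.card V = Nat.card (Module.Dual F V) := by
    rw [Module.natCard_eq_pow_finrank (K := F), Module.natCard_eq_pow_finrank (K := F) (V := Module.Dual F V),
      Subspace.dual_finrank_eq]
  obtain ⟨u, hu⟩ := ((Nat.bijective_iff_injective_and_card Φ).2 ⟨hinj, hcard⟩).2 φ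
  exact ⟨u, fun w => by rw [← hu]; rfl⟩

open CfsgLib.ClassicalAut

/-- Elations are isometries. -/
theorem E_isometry (S : Space F V) {e u : V} (he : S.h e e = 0) (hu : S.h u e = 0) {t : F}
    (ht : S.Valid u t) (a b : V) : S.h (S.E e u t a) (S.E e u t b) = S.h a b := by
  have hb : S.h e b = S.ε * S.bar (S.h b e) := S.swap b e
  have hb' : S.h u b = S.ε * S.bar (S.h b u) := S.swap b u
  unfold Space.Valid at ht
  simp only [S.E_apply, S.add_left, S.sub_left, S.smul_left, S.add_right, S.sub_right,
    S.smul_right, he, hu, S.eq_zero_symm hu, map_mul, S.bar_ε, hb, hb']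
  linear_combination (S.h a e * S.bar (S.h b e)) * ht - (S.bar (S.h b e) * S.h a u) * S.ε_sq

/-- The setting of an alternating or Hermitian space. -/
noncomputable def sesqSetting (S : Space F V) (ρ : G →* (V ≃ₗ[F] V)) (hinj : Function.Injective ρ)
    (hinv : ∀ g a b, S.h (ρ g a) (ρ g b) = S.h a b)
    (real : ∀ T : Module.End F V, (∀ a b, S.h (T a) (T b) = S.h a b) → (T - 1) ^ 3 = 0 →
      ∃ g, ∀ v, ρ g v = T v) : Setting F V G where
  ρ := ρ
  ρ_inj := hinj
  f := S.h
  f_add := S.add_left
  f_smul := S.smul_left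
  f_symm0 _ _ h := S.eq_zero_symm h
  f_inv := hinv
  sg v := S.h v v = 0
  sg_zero := S.zero_left 0
  sg_self _ h := h
  sg_smul c a h := by rw [S.smul_left, S.smul_right, h, mul_zero, mul_zero]
  sg_add a b ha hb h := by
    rw [S.add_left, S.add_right, S.add_right, ha, hb, h, S.eq_zero_symm h]; simp
  sg_inv g a h := by rw [hinv]; exact h
  double_perp W v h := by
    by_contra hv
    obtain ⟨φ, hφv, hφW⟩ := Submodule.exists_dual_map_eq_bot_of_notMem hv inferInstance
    obtain ⟨u, hu⟩ := exists_dual S φ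
    refine hφv ?_
    rw [← hu]
    exact h u fun w hw => S.eq_zero_symm (by
      rw [hu]
      exact (Submodule.mem_bot F).1 (hφW ▸ Submodule.mem_map_of_mem hw))
  adjust v x hx hvx := by
    obtain ⟨t, ht⟩ := S.tr v
    -- `h (v + c x) = h v v + ε t + bar t` when `bar c * h v x = ε t`
    refine ⟨S.bar (S.ε * t * (S.h v x)⁻¹), ?_⟩
    have h1 : S.bar (S.bar (S.ε * t * (S.h v x)⁻¹)) * S.h v x = S.ε * t := by
      rw [S.bar_bar, mul_assoc (S.ε * t), inv_mul_cancel₀ hvx, mul_one]
    have h2 : S.bar (S.ε * t * (S.h v x)⁻¹) * S.h x v = S.bar t := by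
      rw [S.swap v x, map_mul, map_mul, S.bar_ε, map_inv₀]
      have h0 : S.bar (S.h v x) ≠ 0 := by simpa using hvx
      field_simp
      linear_combination S.bar t * S.ε_sq
    rw [S.add_left, S.add_right, S.add_right, S.smul_left, S.smul_right, S.smul_left, S.smul_right,
      hx, h1, h2]
    simpa [add_assoc] using ht
  spec x o o' hx ho ho' h h' := by
    set t := S.ε * S.h o o' with htdef
    have hax : S.h (o' - o) x = 0 := by rw [S.sub_left, h, h', sub_self]
    have hval : S.Valid (o' - o) t := by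
      rw [Space.Valid, S.sub_left, S.sub_right, S.sub_right, ho, ho', htdef, map_mul, S.bar_ε,
        ← S.swap o o']
      linear_combination S.h o o' * S.ε_sq
    have hlin : ∀ v, (S.E x (o' - o) t - 1) v =
        S.h v x • (o' - o) - (S.ε * S.h v (o' - o)) • x + (t * S.h v x) • x := fun v => by
      rw [LinearMap.sub_apply, S.E_apply, Module.End.one_apply]; abel
    have hN1 : ∀ v, S.h ((S.E x (o' - o) t - 1) v) x = 0 := fun v => by
      rw [hlin, S.add_left, S.sub_left, S.smul_left, S.smul_left, S.smul_left, hax, hx]; simp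
    have h3 : (S.E x (o' - o) t - 1) ^ 3 = 0 := LinearMap.ext fun v => by
      rw [pow_succ', pow_two, Module.End.mul_apply, Module.End.mul_apply]
      rw [hlin _, hN1]
      have h' : ∀ w, S.h w x = 0 → (S.E x (o' - o) t - 1) w = -(S.ε * S.h w (o' - o)) • x :=
        fun w hw => by rw [hlin, hw]; simp
      rw [h' _ (hN1 v), S.smul_left, S.eq_zero_symm hax]
      simp
    have hiso : ∀ a b, S.h (S.E x (o' - o) t a) (S.E x (o' - o) t b) = S.h a b :=
      E_isometry S hx hax hval
    obtain ⟨g, hg⟩ := real _ hiso h3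
    refine ⟨g, ?_, ?_, fun v hv => ⟨-(S.ε * S.h v (o' - o)), ?_⟩, fun v hv hvo hvo' => ?_⟩
    · rw [hg, S.E_apply_self hx hax]
    · rw [hg, S.E_apply, h, S.sub_right, ho, htdef]
      simp
    · rw [hg, S.E_apply_of_perp t hv, neg_smul, sub_eq_add_neg]
    · rw [hg, S.E_apply_of_perp t hv, S.sub_right, hvo, hvo']
      simp

/-- Unipotent elements have a fixed singular vector orthogonal to their fixed space. -/
theorem sesq_good (p : ℕ) [Fact p.Prime] [CharP F p] (S : Space F V) (ρ : G →* (V ≃ₗ[F] V))
    (hinj : Function.Injective ρ) (hinv : ∀ g a b, S.h (ρ g a) (ρ g b) = S.h a b) {u : G} (hu : u ≠ 1)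
    (k : ℕ) (hk : u ^ p ^ k = 1) :
    ∃ r, r ≠ 0 ∧ S.h r r = 0 ∧ ρ u r = r ∧ ∀ v, ρ u v = v → S.h v r = 0 := by
  classical
  set N : Module.End F V := (ρ u).toLinearMap - 1 with hN
  have hNv : ∀ v, N v = ρ u v - v := fun _ => rfl
  have hperp : ∀ w, ρ u w = w → ∀ y, S.h w (N y) = 0 := fun w hw y => by
    rw [hNv, S.sub_right]
    nth_rewrite 1 [← hw]
    rw [hinv, sub_self]
  have hcast : ((p : ℕ) : Module.End F V) = 0 := by
    rw [← map_natCast (algebraMap F (Module.End F V)) p, CharP.cast_eq_zero, map_zero]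
  have hnil : N ^ p ^ k = 0 := by
    have hT : (ρ u).toLinearMap ^ p ^ k = 1 := by
      have := map_pow (LinearEquiv.automorphismGroup.toLinearMapMonoidHom (R := F) (M := V))
        (ρ u) (p ^ k)
      rw [← map_pow ρ, hk, map_one, map_one] at this
      exact this.symm
    have h := (Commute.one_right N).add_pow_prime_pow_eq (Fact.out : p.Prime) k
    simp only [hN, sub_add_cancel, one_pow, hcast, zero_mul, add_zero, hT] at h
    exact add_eq_right.1 h.symm
  have hex : ∃ j : ℕ, N ^ j = 0 := ⟨_, hnil⟩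
  have hV : ∃ v, N v ≠ 0 := by
    by_contra hall
    push Not at hall
    exact hu (hinj (LinearEquiv.ext fun v => by
      rw [map_one]
      exact sub_eq_zero.1 ((hNv v).symm.trans (hall v))))
  have h1 : 2 ≤ Nat.find hex := by
    by_contra hlt
    obtain ⟨v, hv⟩ := hV
    have h0 := Nat.find_spec hex
    rcases Nat.le_one_iff_eq_zero_or_eq_one.1 (by omega : Nat.find hex ≤ 1) with h | h <;> rw [h] at h0
    · rw [pow_zero] at h0
      exact hv (by
        have := LinearMap.congr_fun h0 (N v)
        simpa using this)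
    · rw [pow_one] at h0
      exact hv (by rw [h0]; rfl)
  obtain ⟨j, hj⟩ : ∃ j, Nat.find hex = j + 2 := ⟨Nat.find hex - 2, by omega⟩
  obtain ⟨v, hv⟩ : ∃ v, (N ^ (j + 1)) v ≠ 0 := by
    by_contra hall
    push Not at hall
    exact Nat.find_min hex (show j + 1 < Nat.find hex by omega) (LinearMap.ext hall)
  set r := (N ^ (j + 1)) v with hr
  have hfix : ρ u r = r := by
    have h2 : (N ^ (j + 2)) v = 0 := by
      have := Nat.find_spec hex
      rw [hj] at this
      rw [this]; rfl
    rw [pow_succ', Module.End.mul_apply, ← hr, hNv] at h2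
    exact sub_eq_zero.1 h2
  have hrperp : ∀ w, ρ u w = w → S.h w r = 0 := fun w hw => by
    rw [hr, pow_succ', Module.End.mul_apply]
    exact hperp w hw _
  exact ⟨r, hv, hrperp r hfix, hfix, hrperp⟩

end CfsgLib.SteinbergPolar
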